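import Groth.Agent.Lib.Stein.Main
import Groth.Agent.Lib.UnitsThick26.FlatIdeal
import Groth.Agent.Lib.Seesaw26.Descent
import Groth.Agent.Lib.PropH0.Components
import Groth.Agent.Lib.BaseChange.Irred
import Groth.Agent.Lib.FibreBC.Basic
import Groth.Agent.Lib.Hensel.Henselization
import Groth.Agent.S4495
import Groth.Agent.Lib.FFDesc.Basic
import Groth.Prelude.Def_ClSub2
import Mathlib.AlgebraicGeometry.Morphisms.SchemeTheoreticallyDominant

/-!
# The Stein factorisation over an arbitrary base
-/

set_option autoImplicit false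
set_option backward.isDefEq.respectTransparency false
set_option linter.style.haveILetI false
universe u

open CategoryTheory CategoryTheory.Limits AlgebraicGeometry Opposite TopologicalSpace

namespace GrothLib.Stein

variable {X Y : Scheme.{u}}

/-- A morphism of modules which is bijective on a basis of opens is an isomorphism. -/
theorem isIso_of_bijective_basis {M N : X.Modules} (f : M ⟶ N) (P : X.Opens → Prop)
    (hP : ∀ (U : X.Opens) (x : X), x ∈ U → ∃ V : X.Opens, P V ∧ x ∈ V ∧ V ≤ U)
    (h : ∀ V : X.Opens, P V → Function.Bijective (f.app V)) : IsIso f := by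
  refine Scheme.Modules.Hom.isIso_iff_isIso_app.mpr fun W => (ConcreteCategory.isIso_iff_bijective _).mpr ?_
  let ι := {V : X.Opens // P V ∧ V ≤ W}
  have hcov : W ≤ ⨆ V : ι, V.1 := fun x hx => by
    obtain ⟨V, hV, hxV, hVW⟩ := hP W x hx
    exact Opens.mem_iSup.2 ⟨⟨V, hV, hVW⟩, hxV⟩
  have hnat : ∀ {U V : X.Opens} (hVU : V ≤ U) (m : Γ(M, U)),
      N.presheaf.map (homOfLE hVU).op (f.app U m) = f.app V (M.presheaf.map (homOfLE hVU).op m) :=
    fun hVU m => (ConcreteCategory.congr_hom (f.mapPresheaf.naturality (homOfLE hVU).op) m).symm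
  have hinj : ∀ U : X.Opens, U ≤ W → ∀ a b : Γ(M, U), f.app U a = f.app U b → a = b := by
    intro U hU a b hab
    refine TopCat.Sheaf.eq_of_locally_eq' ⟨M.presheaf, M.isSheaf⟩ (fun V : {V : X.Opens // P V ∧ V ≤ U} => V.1) U
      (fun V => homOfLE V.2.2) (fun x hx => by
        obtain ⟨V, hV, hxV, hVU⟩ := hP U x hx
        exact Opens.mem_iSup.2 ⟨⟨V, hV, hVU⟩, hxV⟩) a b fun V => ?_
    refine (h V.1 V.2.1).1 ?_
    show f.app V.1 (M.presheaf.map _ a) = f.app V.1 (M.presheaf.map _ b)
    rw [← hnat V.2.2, ← hnat V.2.2, hab]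
  refine ⟨fun a b => hinj W le_rfl a b, fun n => ?_⟩
  choose s hs using fun V : ι => (h V.1 V.2.1).2 (N.presheaf.map (homOfLE V.2.2).op n)
  obtain ⟨m, hm, -⟩ := TopCat.Sheaf.existsUnique_gluing' ⟨M.presheaf, M.isSheaf⟩ (fun V : ι => V.1) W
    (fun V => homOfLE V.2.2) hcov s (fun V V' => by
      refine hinj _ (inf_le_left.trans V.2.2) _ _ ?_
      refine (hnat (inf_le_left : V.1 ⊓ V'.1 ≤ V.1) (s V)).symm.trans
        (Eq.trans ?_ (hnat (inf_le_right : V.1 ⊓ V'.1 ≤ V'.1) (s V')))
      rw [hs, hs, ← ConcreteCategory.comp_apply, ← Functor.map_comp,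
        ← ConcreteCategory.comp_apply, ← Functor.map_comp]
      rfl)
  refine ⟨m, TopCat.Sheaf.eq_of_locally_eq' ⟨N.presheaf, N.isSheaf⟩ (fun V : ι => V.1) W
    (fun V => homOfLE V.2.2) hcov _ _ fun V => ?_⟩
  show N.presheaf.map _ (f.app W m) = _
  rw [hnat V.2.2]
  exact (congrArg (f.app V.1) (hm V)).trans (hs V)

/-- A morphism which is bijective on sections over the basic opens of a family of affines covering
the target is bijective on all sections. -/
theorem bijective_app_of_basicOpen (h : X ⟶ Y) [QuasiCompact h] [QuasiSeparated h]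
    (hcov : ∀ y : Y, ∃ P : Y.Opens, IsAffineOpen P ∧ y ∈ P ∧ Function.Bijective (h.app P))
    (U : Y.Opens) : Function.Bijective (h.app U) := by
  have key : ∀ (P : Y.Opens) (hP : IsAffineOpen P) (hb : Function.Bijective (h.app P)) (s : Γ(Y, P)),
      Function.Bijective (h.app (Y.basicOpen s)) := by
    intro P hP hb s
    haveI hcs : IsCompact (h ⁻¹ᵁ P : X.Opens).1 := h.isCompact_preimage hP.isCompact
    have hqs : IsQuasiSeparated (h ⁻¹ᵁ P : X.Opens).1 :=
      h.isQuasiSeparated_preimage hP.isQuasiSeparated
    haveI := hP.isLocalization_basicOpen s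
    haveI := isLocalization_basicOpen_of_qcqs hcs hqs (h.app P s)
    have heq : X.basicOpen (h.app P s) = h ⁻¹ᵁ Y.basicOpen s := (h.preimage_basicOpen s).symm
    let e : Γ(Y, P) ≃+* Γ(X, h ⁻¹ᵁ P) := RingEquiv.ofBijective (h.app P).hom hb
    have hmap : Submonoid.map e.toMonoidHom (Submonoid.powers s) = Submonoid.powers (h.app P s) := by
      rw [Submonoid.map_powers]; rfl
    let φ := IsLocalization.ringEquivOfRingEquiv Γ(Y, Y.basicOpen s) Γ(X, X.basicOpen (h.app P s)) e hmap
    have hφ : φ.toRingHom = (X.presheaf.map (eqToHom heq).op).hom.comp (h.app (Y.basicOpen s)).hom := by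
      refine IsLocalization.ringHom_ext (Submonoid.powers s) ?_
      ext a
      simp only [RingHom.comp_apply, RingEquiv.toRingHom_eq_coe, RingHom.coe_coe, φ]
      rw [IsLocalization.ringEquivOfRingEquiv_eq]
      show (X.presheaf.map (homOfLE (X.basicOpen_le _)).op) (h.app P a) =
        (X.presheaf.map (eqToHom heq).op) (h.app (Y.basicOpen s) (Y.presheaf.map (homOfLE (Y.basicOpen_le s)).op a))
      rw [← ConcreteCategory.comp_apply (Y.presheaf.map _), h.naturality, ConcreteCategory.comp_apply,
        ← ConcreteCategory.comp_apply, ← ConcreteCategory.comp_apply, ← Functor.map_comp]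
      rfl
    have h1 : Function.Bijective ((X.presheaf.map (eqToHom heq).op) ∘ h.app (Y.basicOpen s)) := by
      have := φ.bijective
      rwa [show ⇑φ = (X.presheaf.map (eqToHom heq).op) ∘ h.app (Y.basicOpen s) from
        funext fun a => congr($hφ a)] at this
    exact (Function.Bijective.of_comp_iff'
      (ConcreteCategory.bijective_of_isIso (X.presheaf.map (eqToHom heq).op)) _).1 h1
  haveI : IsIso (ClSub.unitToPush h) := isIso_of_bijective_basis _
    (fun W => ∃ (P : Y.Opens) (_ : IsAffineOpen P) (_ : Function.Bijective (h.app P)) (s : Γ(Y, P)),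
      W = Y.basicOpen s)
    (fun W y hy => by
      obtain ⟨P, hP, hyP, hb⟩ := hcov y
      obtain ⟨s, hs, hys⟩ := hP.exists_basicOpen_le (V := W) ⟨y, hy⟩ hyP
      exact ⟨_, ⟨P, hP, hb, s, rfl⟩, hys, hs⟩)
    (fun W ⟨P, hP, hb, s, hW⟩ => hW ▸ key P hP hb s)
  show Function.Bijective ((ClSub.unitToPush h).app U)
  exact (ConcreteCategory.isIso_iff_bijective _).1
    (Scheme.Modules.Hom.isIso_iff_isIso_app.1 (inferInstance : IsIso (ClSub.unitToPush h)) U)

/-- The structure sheaf of the relative normalization is the direct image of that of the source. -/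
theorem bijective_toNormalization_app (f : X ⟶ Y) [UniversallyClosed f] [QuasiSeparated f]
    (U : f.normalization.Opens) : Function.Bijective (f.toNormalization.app U) := by
  haveI : IsSchemeTheoreticallyDominant f.toNormalization := ⟨f.ker_toNormalization⟩
  refine bijective_app_of_basicOpen _ (fun n => ?_) U
  obtain ⟨V, hV, hnV, -⟩ := exists_isAffineOpen_mem_and_subset (x := f.fromNormalization n) (U := ⊤) trivial
  refine ⟨f.fromNormalization ⁻¹ᵁ V, hV.preimage f.fromNormalization, hnV, f.toNormalization.app_injective _, ?_⟩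
  intro b
  have e : f ⁻¹ᵁ V = f.toNormalization ⁻¹ᵁ f.fromNormalization ⁻¹ᵁ V := by
    simp [← Scheme.Hom.comp_preimage]
  obtain ⟨a, ha⟩ := surjective_toNormalization_appLE f hV (X.presheaf.map (eqToHom e).op b)
  refine ⟨a, (ConcreteCategory.bijective_of_isIso (X.presheaf.map (eqToHom e).op)).1 ?_⟩
  exact ha

/-- **Zariski connectedness over an arbitrary base.** -/
theorem geometricallyConnected_of_bijective_app (h : X ⟶ Y) [IsProper h]
    (hb : ∀ U : Y.Opens, Function.Bijective (h.app U)) : GeometricallyConnected h := by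
  rw [GeometricallyConnected.iff_geometricallyConnected_fiber]
  intro y
  let A := Y.presheaf.stalk y
  let S := GrothLib.Hensel.StrictHens A
  haveI : Hensel.IsStrictHenselization A S := inferInstance
  haveI : HenselianLocalRing S := Hensel.IsStrictHenselization.henselian A
  haveI : Module.FaithfullyFlat A S := GrothLib.Hensel.IsStrictHenselization.faithfullyFlat
  haveI : Flat (Spec.map (CommRingCat.ofHom (algebraMap A S))) :=
    (HasRingHomProperty.Spec_iff (P := @Flat)).mpr (RingHom.flat_algebraMap_iff.mpr inferInstance)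
  let g : Spec (CommRingCat.of S) ⟶ Y :=
    Spec.map (CommRingCat.ofHom (algebraMap A S)) ≫ Y.fromSpecStalk y
  haveI : Flat (Y.fromSpecStalk y) := GrothLib.FFDesc.flat_fromSpecStalk' Y y
  haveI : Flat g := inferInstance
  let P := pullback h g
  let q : P ⟶ Spec (CommRingCat.of S) := pullback.snd h g
  have hq : Function.Bijective (q.app ⊤) := GrothLib.Seesaw26.bijective_app_of_flat_baseChange h hb g ⊤
  let eP : S ≃+* Γ(P, ⊤) := (Scheme.ΓSpecIso (CommRingCat.of S)).symm.commRingCatIsoToRingEquiv.trans
    (RingEquiv.ofBijective q.appTop.hom hq)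
  haveI : Nonempty P := by
    by_contra hne
    haveI : IsEmpty P := not_nonempty_iff.1 hne
    haveI : Subsingleton Γ(P, ⊤) := inferInstance
    exact zero_ne_one (α := S) (eP.injective (Subsingleton.elim _ _))
  haveI : PreconnectedSpace P := (Groth.Agent.S4495.result P.toLocallyRingedSpace).2 fun (e : Γ(P, ⊤)) he => by
    have he' : IsIdempotentElem (eP.symm e) := he.map eP.symm
    rcases IsLocalRing.isUnit_or_isUnit_one_sub_self (eP.symm e) with hu | hu
    · right
      have h1 : eP.symm e = 1 := hu.mul_left_cancel (he'.eq.trans (mul_one _).symm)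
      simpa using congrArg eP h1
    · left
      have h1 : eP.symm e = 0 := hu.mul_left_cancel (he'.one_sub_mul_self.trans (mul_zero _).symm)
      simpa using congrArg eP h1
  haveI : ConnectedSpace P := { toNonempty := inferInstance }
  let m := IsLocalRing.maximalIdeal S
  let k := IsLocalRing.ResidueField S
  let c : Spec (CommRingCat.of k) ⟶ Spec (CommRingCat.of S) := Spec.map (CommRingCat.ofHom (Ideal.Quotient.mk m))
  haveI : IsClosedImmersion c := IsClosedImmersion.spec_of_surjective _ Ideal.Quotient.mk_surjective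
  let Q := pullback q c
  haveI : ConnectedSpace Q :=
    (GrothLib.PropH0.connectedSpace_iff q m (pullback.fst q c).base
      (pullback.fst q c).isEmbedding (GrothLib.PropH0.range_fst_eq_Z0 q m)).1 inferInstance
  let Z := pullback h (c ≫ g)
  haveI : ConnectedSpace Z :=
    (pullbackLeftPullbackSndIso h g c).hom.homeomorph.surjective.connectedSpace
      (pullbackLeftPullbackSndIso h g c).hom.continuous
  letI : Z.Over (Spec (CommRingCat.of k)) := ⟨pullback.snd h (c ≫ g)⟩
  haveI : IsSepClosed k :=
    (Hensel.IsStrictHenselization.isSepClosure (R := A) (S := S)).sep_closed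
  haveI : ConnectedSpace (Curv2.bc k Z k) := by
    let i : Z ⟶ Curv2.bc k Z k := pullback.lift (𝟙 Z) (Z ↘ Spec (CommRingCat.of k))
      (by simp)
    haveI : IsIso (Spec.map (CommRingCat.ofHom (algebraMap k k))) := by
      rw [show CommRingCat.ofHom (algebraMap k k) = 𝟙 _ from rfl, Spec.map_id]; infer_instance
    haveI : IsIso (Curv2.bcFst k Z k) := pullback_fst_iso_of_right_iso _ _
    haveI : IsIso i := IsIso.of_isIso_fac_right (pullback.lift_fst (𝟙 Z) _ _ : i ≫ Curv2.bcFst k Z k = 𝟙 Z)
    exact i.homeomorph.surjective.connectedSpace i.continuous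
  haveI hgc : GeometricallyConnected (pullback.snd h (c ≫ g)) :=
    GrothLib.BaseChange.geometricallyConnected_of_connected_bc k Z k
  let pt : Spec (CommRingCat.of k) := default
  have hpt : (c ≫ g) pt = y := by
    have h1 : c pt = IsLocalRing.closedPoint S := by
      apply PrimeSpectrum.ext
      show Ideal.comap (Ideal.Quotient.mk m) pt.asIdeal = m
      rw [Subsingleton.elim pt ⟨⊥, Ideal.isPrime_bot⟩]
      exact Ideal.mk_ker
    rw [Scheme.Hom.comp_apply, h1, Scheme.Hom.comp_apply]
    haveI : IsLocalHom (CommRingCat.ofHom (algebraMap A S)).hom :=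
      inferInstanceAs (IsLocalHom (algebraMap A S))
    erw [Spec_closedPoint]
    exact Scheme.fromSpecStalk_closedPoint
  have := (GrothLib.FibreBC.geometricallyConnected_fiber_iff (IsPullback.of_hasPullback h (c ≫ g)) pt).1
    ((GeometricallyConnected.iff_geometricallyConnected_fiber _).1 hgc pt)
  rwa [hpt] at this

/-- **Stein factorisation**: the map to the relative normalization has geometrically connected fibres. -/
theorem geometricallyConnected_toNormalization (f : X ⟶ Y) [IsProper f] :
    GeometricallyConnected f.toNormalization := by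
  haveI : IsProper (f.toNormalization ≫ f.fromNormalization) := by
    rw [f.toNormalization_fromNormalization]; infer_instance
  haveI : IsProper f.toNormalization := IsProper.of_comp f.toNormalization f.fromNormalization
  exact geometricallyConnected_of_bijective_app _ (bijective_toNormalization_app f)

end GrothLib.Stein
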