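import Groth.Agent.Lib.PropH0.SepNorm
import Mathlib.RingTheory.Invariant.Galois
import Mathlib.RingTheory.Localization.Integral
import Mathlib.FieldTheory.PurelyInseparable.Basic
import Mathlib.FieldTheory.SeparableClosure
import Mathlib.FieldTheory.Galois.Basic
import Mathlib.RingTheory.Spectrum.Maximal.Basic

/-! # Maximal ideals of integral closures over a unibranch local ring -/

set_option autoImplicit false
set_option linter.style.haveILetI false
universe u

open scoped Pointwise

namespace GrothLib.Stein

/-- Over an integrally closed local domain the maximal ideals of the integral closure in a finite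
separable extension are at most as many as the degree. -/
theorem finite_maximalSpectrum_of_separable {A K L : Type u} [CommRing A] [IsDomain A] [IsIntegrallyClosed A]
    [IsLocalRing A] [Field K] [Algebra A K] [IsFractionRing A K] [Field L] [Algebra K L] [Algebra A L]
    [IsScalarTower A K L] [FiniteDimensional K L] [Algebra.IsSeparable K L] :
    Finite (MaximalSpectrum (integralClosure A L)) ∧
      Nat.card (MaximalSpectrum (integralClosure A L)) ≤ Module.finrank K L := by
  classical
  let Ω := SeparableClosure K
  let N := IntermediateField.normalClosure K L Ω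
  letI : Algebra L Ω := (IsSepClosed.lift (K := K) (L := L) (M := Ω)).toRingHom.toAlgebra
  haveI : IsScalarTower K L Ω := IsScalarTower.of_algebraMap_eq fun c =>
    ((IsSepClosed.lift (K := K) (L := L) (M := Ω)).commutes c).symm
  haveI : IsGalois K N := inferInstance
  haveI : FiniteDimensional K N := inferInstance
  let C := integralClosure A N
  haveI : IsFractionRing C N := integralClosure.isFractionRing_of_finite_extension K N
  letI := IsIntegralClosure.MulSemiringAction A K N C
  haveI := Algebra.isInvariant_of_isGalois A K N C
  haveI : Finite Gal(N/K) := inferInstance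
  haveI : Algebra.IsAlgebraic A K := IsLocalization.isAlgebraic K (nonZeroDivisors A)
  haveI : Algebra.IsAlgebraic A N := Algebra.IsAlgebraic.trans A K N
  have hinj : Function.Injective (algebraMap A C) := by
    intro a b h
    have h' : algebraMap A N a = algebraMap A N b := congrArg Subtype.val h
    rw [IsScalarTower.algebraMap_apply A K N, IsScalarTower.algebraMap_apply A K N] at h'
    exact IsFractionRing.injective A K ((algebraMap K N).injective h')
  haveI : FaithfulSMul A C := (faithfulSMul_iff_algebraMap_injective A C).2 hinj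
  haveI : Algebra.IsIntegral A C := inferInstance
  obtain ⟨⟨Q₀, hQ₀, hlie⟩⟩ := Ideal.nonempty_primesOver (S := C) (P := IsLocalRing.maximalIdeal A)
  haveI := hQ₀
  let toC : (L →ₐ[K] N) → (integralClosure A L →+* C) := fun σ =>
    RingHom.codRestrict ((σ : L →+* N).comp (integralClosure A L).val.toRingHom) C
      fun x => (x.2.map (σ.restrictScalars A) : IsIntegral A (σ x.1))
  let ι₀ : L →ₐ[K] N := (normalClosure.algHomEquiv K L Ω).symm IsSepClosed.lift
  have key : ∀ M : MaximalSpectrum (integralClosure A L),
      ∃ σ : L →ₐ[K] N, M.asIdeal = Q₀.comap (toC σ) := by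
    intro M
    haveI := M.isMaximal
    have hint : (toC ι₀).IsIntegral := fun c => by
      have hc : IsIntegral A c := Algebra.IsIntegral.isIntegral c
      obtain ⟨p, hp, hpc⟩ := hc
      refine ⟨p.map (algebraMap A (integralClosure A L)), hp.map _, ?_⟩
      rw [Polynomial.eval₂_map]
      convert hpc using 2
      apply RingHom.ext
      intro a
      apply Subtype.ext
      exact (ι₀.restrictScalars A).commutes a
    have hinj' : RingHom.ker (toC ι₀) = ⊥ := by
      rw [← RingHom.injective_iff_ker_eq_bot]
      intro a b h
      exact Subtype.ext (ι₀.injective (congrArg Subtype.val h))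
    letI := (toC ι₀).toAlgebra
    haveI : Algebra.IsIntegral (integralClosure A L) C := ⟨hint⟩
    obtain ⟨Q, hQ, hQM⟩ := Ideal.exists_ideal_over_maximal_of_isIntegral (S := C) M.asIdeal
      (by show RingHom.ker (toC ι₀) ≤ _; rw [hinj']; exact bot_le)
    haveI : Q.IsPrime := hQ.isPrime
    haveI : Algebra.IsIntegral A C := inferInstance
    have hQA : Q.under A = Q₀.under A := by
      haveI : (Q.under A).IsMaximal := Ideal.isMaximal_comap_of_isIntegral_of_isMaximal Q
      rw [IsLocalRing.eq_maximalIdeal ‹(Q.under A).IsMaximal›, ← hlie.over]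
    haveI : SMulCommClass Gal(N/K) A C := ⟨fun g a c => map_smul (galRestrict A K N C g) a c⟩
    obtain ⟨g, hg⟩ := Algebra.IsInvariant.exists_smul_of_under_eq A C Gal(N/K) Q₀ Q hQA.symm
    refine ⟨((g⁻¹ : Gal(N/K)) : N →ₐ[K] N).comp ι₀, ?_⟩
    ext x
    rw [← hQM, Ideal.mem_comap, hg, Ideal.mem_comap]
    rw [show algebraMap (integralClosure A L) C x = toC ι₀ x from rfl]
    have e : g⁻¹ • toC ι₀ x = toC (((g⁻¹ : Gal(N/K)) : N →ₐ[K] N).comp ι₀) x := by
      apply Subtype.ext
      exact (algebraMap_galRestrict_apply A (g⁻¹ : Gal(N/K)) (toC ι₀ x))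
    rw [Ideal.mem_pointwise_smul_iff_inv_smul_mem, e]
  choose Φ hΦ using key
  have hΦi : Function.Injective Φ := fun M M' h => MaximalSpectrum.ext (by rw [hΦ M, hΦ M', h])
  refine ⟨Finite.of_injective Φ hΦi, (Nat.card_le_card_of_injective Φ hΦi).trans ?_⟩
  refine Cardinal.toNat_le_toNat (d := (Module.finrank K L : Cardinal)) ?_ Cardinal.natCast_lt_aleph0 |>.trans (Cardinal.toNat_natCast _).le
  refine (cardinalMk_algHom K L N).trans (le_of_eq ?_)
  rw [Module.finrank_linearMap_self]

/-- **Counting maximal ideals over a unibranch point.** -/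
theorem finite_maximalSpectrum_of_unibranch {R K E : Type u} [CommRing R] [IsDomain R] [IsLocalRing R]
    [Field K] [Algebra R K] [IsFractionRing R K] [IsLocalRing (integralClosure R K)]
    [Field E] [Algebra K E] [Algebra R E] [IsScalarTower R K E] (n : ℕ) (hn0 : 0 < n)
    (hn : Field.finSepDegree K (algebraicClosure K E) = n) :
    Finite (MaximalSpectrum (integralClosure R E)) ∧
      Nat.card (MaximalSpectrum (integralClosure R E)) ≤ n := by
  classical
  let A := integralClosure R K
  haveI : IsIntegrallyClosed A := PropH0.isIntegrallyClosed_closure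
  haveI : Algebra.IsAlgebraic R K := IsLocalization.isAlgebraic K (nonZeroDivisors R)
  haveI : IsFractionRing A K := integralClosure.isFractionRing_of_algebraic fun x h =>
    IsFractionRing.injective R K (h.trans (map_zero _).symm)
  let Ea := algebraicClosure K E
  let L := separableClosure K Ea
  haveI : Algebra.IsAlgebraic K Ea := algebraicClosure.isAlgebraic K E
  have hfr : Module.finrank K L = n := by
    rw [← hn, Field.finSepDegree_eq]; rfl
  haveI : FiniteDimensional K L := Module.finite_of_finrank_pos (hfr ▸ hn0)
  obtain ⟨hfin, hcard⟩ := finite_maximalSpectrum_of_separable (A := A) (K := K) (L := L)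
  rw [hfr] at hcard
  let j : L →ₐ[K] E := (Ea.val).comp L.val
  haveI : Algebra.IsIntegral R A := inferInstance
  have hj : ∀ x : integralClosure A L, IsIntegral R (j x.1) := fun x =>
    (isIntegral_trans (R := R) (A := A) x.1 x.2).map (j.restrictScalars R)
  let ψ : integralClosure A L →+* integralClosure R E :=
    RingHom.codRestrict ((j : L →+* E).comp (integralClosure A L).val.toRingHom) _ hj
  have hψint : ψ.IsIntegral := fun c => by
    have hc : IsIntegral R c := Algebra.IsIntegral.isIntegral c
    obtain ⟨p, hp, hpc⟩ := hc
    refine ⟨p.map (algebraMap R (integralClosure A L)), hp.map _, ?_⟩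
    rw [Polynomial.eval₂_map]
    convert hpc using 2
    ext a
    show j (algebraMap R L a) = algebraMap R E a
    rw [IsScalarTower.algebraMap_apply R K L, j.commutes, ← IsScalarTower.algebraMap_apply]
  let Φ : MaximalSpectrum (integralClosure R E) → MaximalSpectrum (integralClosure A L) := fun M =>
    ⟨M.asIdeal.comap ψ, by
      haveI := M.isMaximal
      letI := ψ.toAlgebra
      haveI : Algebra.IsIntegral (integralClosure A L) (integralClosure R E) := ⟨hψint⟩
      exact Ideal.isMaximal_comap_of_isIntegral_of_isMaximal (R := integralClosure A L) M.asIdeal⟩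
  have hΦi : Function.Injective Φ := by
    intro M M' h
    have h' : ∀ y, ψ y ∈ M.asIdeal ↔ ψ y ∈ M'.asIdeal := fun y =>
      SetLike.ext_iff.1 (congrArg MaximalSpectrum.asIdeal h) y
    ext x
    haveI := M.isMaximal.isPrime
    haveI := M'.isMaximal.isPrime
    have hxK : IsIntegral K x.1 := IsIntegral.tower_top (R := R) x.2
    let xa : Ea := ⟨x.1, mem_algebraicClosure_iff.2 hxK.isAlgebraic⟩
    haveI : ExpChar K (ringExpChar K) := inferInstance
    haveI : ExpChar L (ringExpChar K) := expChar_of_injective_ringHom (algebraMap K L).injective _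
    obtain ⟨k, l, hl⟩ := IsPurelyInseparable.pow_mem L (ringExpChar K) xa
    have hlx : j l = x.1 ^ (ringExpChar K) ^ k := congrArg Subtype.val hl
    have hlA : IsIntegral A l := by
      have h1 : IsIntegral R l := by
        refine (isIntegral_algHom_iff (j.restrictScalars R) j.injective).1 ?_
        show IsIntegral R (j l)
        rw [hlx]
        exact x.2.pow _
      exact h1.tower_top
    have hy : ψ ⟨l, hlA⟩ = x ^ (ringExpChar K) ^ k := Subtype.ext hlx
    have h0 : 0 < (ringExpChar K) ^ k := pow_pos (expChar_pos K _) k
    rw [← Ideal.IsPrime.pow_mem_iff_mem ‹M.asIdeal.IsPrime› _ h0,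
      ← Ideal.IsPrime.pow_mem_iff_mem ‹M'.asIdeal.IsPrime› _ h0, ← hy]
    exact h' _
  exact ⟨Finite.of_injective Φ hΦi, (Nat.card_le_card_of_injective Φ hΦi).trans hcard⟩

end GrothLib.Stein
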