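import Groth.Agent.Lib.Stein.Main
import Groth.Agent.Lib.Stein.CountAlg
import Groth.Prelude.Def_CAlg2

/-! # Connected components of fibres and maximal ideals of integral closures -/

set_option autoImplicit false
set_option linter.style.haveILetI false
universe u

open CategoryTheory CategoryTheory.Limits AlgebraicGeometry Opposite TopologicalSpace

namespace GrothLib.Stein

open GrothLib.PropH0

/-- A unibranch local domain has local integral closure in any fraction field. -/
theorem isLocalRing_integralClosure_of_isUnibranch {R K : Type u} [CommRing R] [IsDomain R] [IsLocalRing R]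
    [Field K] [Algebra R K] [IsFractionRing R K] (hu : CAlg2.IsUnibranch R) :
    IsLocalRing (integralClosure R K) := by
  haveI := hu.1
  haveI : IsLocalRing (CAlg2.normRed R) := hu.2
  let e₀ : R ≃+* CAlg2.red R := RingEquiv.ofBijective (Ideal.Quotient.mk (nilradical R))
    ⟨by rw [RingHom.injective_iff_ker_eq_bot, Ideal.mk_ker]; exact nilradical_eq_zero R,
      Ideal.Quotient.mk_surjective⟩
  let g : K ≃+* FractionRing (CAlg2.red R) := IsFractionRing.ringEquivOfRingEquiv e₀
  have hg : ∀ r, g (algebraMap R K r) = algebraMap (CAlg2.red R) _ (e₀ r) :=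
    fun r => IsFractionRing.ringEquivOfRingEquiv_algebraMap e₀ r
  have hcomp : (algebraMap R K).comp (e₀.symm : CAlg2.red R →+* R) =
      g.symm.toRingHom.comp (algebraMap (CAlg2.red R) _) := by
    apply RingHom.ext; intro a
    show algebraMap R K (e₀.symm a) = g.symm (algebraMap _ _ a)
    rw [RingEquiv.eq_symm_apply, hg, e₀.apply_symm_apply]
  have hcomp' : (algebraMap (CAlg2.red R) (FractionRing (CAlg2.red R))).comp (e₀ : R →+* CAlg2.red R) =
      g.toRingHom.comp (algebraMap R K) := by
    apply RingHom.ext; intro a; exact (hg a).symm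
  let ψ : CAlg2.normRed R →+* integralClosure R K :=
    RingHom.codRestrict ((g.symm.toRingHom).comp
      (integralClosure (CAlg2.red R) _).val.toRingHom) _
      fun x => IsIntegral.map_of_comp_eq (e₀.symm : CAlg2.red R →+* R) g.symm.toRingHom hcomp x.2
  refine IsLocalRing.of_surjective' ψ fun y => ?_
  refine ⟨⟨g y.1, IsIntegral.map_of_comp_eq (e₀ : R →+* CAlg2.red R) g.toRingHom hcomp' y.2⟩, ?_⟩
  exact Subtype.ext (g.symm_apply_apply _)

theorem isLocalRing_integralClosure_of_ringEquiv {R S K : Type u} [CommRing R] [IsDomain R] [IsLocalRing R]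
    [CommRing S] [Field K] [Algebra S K] [IsFractionRing S K] (e : S ≃+* R) (hu : CAlg2.IsUnibranch R) :
    IsLocalRing (integralClosure S K) := by
  letI : Algebra R K := ((algebraMap S K).comp e.symm.toRingHom).toAlgebra
  haveI : IsFractionRing R K := by
    have h := IsLocalization.isLocalization_of_base_ringEquiv (nonZeroDivisors S) K e
    rwa [MulEquivClass.map_nonZeroDivisors] at h
  haveI := isLocalRing_integralClosure_of_isUnibranch (K := K) hu
  let ψ : integralClosure R K →+* integralClosure S K :=
    RingHom.codRestrict (integralClosure R K).val.toRingHom _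
      fun x => IsIntegral.map_of_comp_eq e.symm.toRingHom (RingHom.id K) rfl x.2
  refine IsLocalRing.of_surjective' ψ fun y => ⟨⟨y.1, ?_⟩, rfl⟩
  exact IsIntegral.map_of_comp_eq e.toRingHom (RingHom.id K) (RingHom.ext fun s => by
    show algebraMap S K (e.symm (e s)) = algebraMap S K s
    rw [e.symm_apply_apply]) y.2

variable {X Y : Scheme.{u}}

theorem stalkToFunctionField_eq [IsIntegral X] (f : X ⟶ Y) {x : X} {y : Y} (hxy : f x = y)
    (h : f.base (genericPoint X) ⤳ y) :
    CohIII.stalkToFunctionField f y h =
      ((X.presheaf.stalkSpecializes (genericPoint_specializes x)).hom.comp (f.stalkMap x).hom).comp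
        (Y.presheaf.stalkSpecializes (specializes_of_eq hxy)).hom := by
  subst hxy
  rw [← CommRingCat.hom_comp, ← Scheme.Hom.stalkSpecializes_stalkMap]
  ext a
  simp [CohIII.stalkToFunctionField]

/-- Connected components of the fibre inject into maximal ideals of the integral closure. -/
theorem exists_injective_componentsToMax [IsIntegral X] [IsLocallyNoetherian Y] (f : X ⟶ Y) [IsProper f]
    (y : Y) (h : f.base (genericPoint X) ⤳ y) :
    ∃ Φ : _root_.ConnectedComponents ↥(f.fiber y) → MaximalSpectrum (CohIII.integralClosureStalk f y h),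
      Function.Injective Φ := by
  classical
  haveI := noetherianSpace_fiber' f y
  letI := (CohIII.stalkToFunctionField f y h).toAlgebra
  have hfib : ∀ z : f.fiber y, f (f.fiberι y z) = y := fun z => (f.range_fiberι y).le ⟨z, rfl⟩
  let sη : ∀ x : X, X.presheaf.stalk x →+* X.functionField := fun x =>
    (X.presheaf.stalkSpecializes (genericPoint_specializes x)).hom
  have hV : ∀ x : X, ∃ (V : ValuationSubring X.functionField) (hle : ∀ s, sη x s ∈ V.toSubring),
      IsLocalHom ((sη x).codRestrict V.toSubring hle) := fun x => IsLocalRing.exists_factor_valuationRing (sη x)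
  choose V hle hloc using hV
  let sV : ∀ x : X, X.presheaf.stalk x →+* V x := fun x => (sη x).codRestrict (V x) (hle x)
  have hlocV : ∀ x, IsLocalHom (sV x) := fun x => ⟨fun a ha => (hloc x).map_nonunit a ha⟩
  let B := integralClosure (Y.presheaf.stalk y) X.functionField
  have hRV : ∀ x, f x = y → ∀ r : Y.presheaf.stalk y,
      algebraMap (Y.presheaf.stalk y) X.functionField r ∈ V x := by
    intro x hx r
    show CohIII.stalkToFunctionField f y h r ∈ V x
    rw [stalkToFunctionField_eq f hx h]
    exact hle x _
  have hBV : ∀ x, f x = y → ∀ b : B, (b : X.functionField) ∈ V x := by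
    intro x hx b
    let φ : Y.presheaf.stalk y →+* V x := (algebraMap (Y.presheaf.stalk y) X.functionField).codRestrict _ (hRV x hx)
    have hint : IsIntegral (V x) (b : X.functionField) := by
      simpa using IsIntegral.map_of_comp_eq φ (RingHom.id X.functionField) (RingHom.ext fun r => rfl) b.2
    obtain ⟨v, hv⟩ := IsIntegrallyClosed.algebraMap_eq_of_integral hint
    exact hv ▸ v.2
  let toV : ∀ x, f x = y → (B →+* V x) := fun x hx => RingHom.codRestrict B.val.toRingHom (V x) (hBV x hx)
  have hmax : ∀ x (hx : f x = y), ((IsLocalRing.maximalIdeal (V x)).comap (toV x hx)).IsMaximal := by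
    intro x hx
    haveI : ((IsLocalRing.maximalIdeal (V x)).comap (toV x hx)).IsPrime := Ideal.comap_isPrime _ _
    haveI : Algebra.IsIntegral (Y.presheaf.stalk y) B := inferInstance
    apply Ideal.isMaximal_of_isIntegral_of_isMaximal_comap (R := Y.presheaf.stalk y)
    have hφ : IsLocalHom ((toV x hx).comp (algebraMap (Y.presheaf.stalk y) B)) := by
      have e : (toV x hx).comp (algebraMap (Y.presheaf.stalk y) B) =
          ((sV x).comp (f.stalkMap x).hom).comp
            (Y.presheaf.stalkSpecializes (specializes_of_eq hx)).hom := by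
        apply RingHom.ext; intro r
        apply Subtype.ext
        show CohIII.stalkToFunctionField f y h r = _
        rw [stalkToFunctionField_eq f hx h]
        rfl
      rw [e]
      subst hx
      haveI := hlocV x
      haveI : IsLocalHom (f.stalkMap x).hom := inferInstance
      haveI : IsLocalHom (Y.presheaf.stalkSpecializes (specializes_of_eq (rfl : f x = f x))).hom := by
        rw [TopCat.Presheaf.stalkSpecializes_refl]; exact isLocalHom_id _
      infer_instance
    have h4 := ((IsLocalRing.local_hom_TFAE ((toV x hx).comp (algebraMap (Y.presheaf.stalk y) B))).out 0 4).1 hφ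
    rw [Ideal.comap_comap, h4]
    infer_instance
  let M : ∀ z : f.fiber y, MaximalSpectrum (CohIII.integralClosureStalk f y h) := fun z =>
    ⟨(IsLocalRing.maximalIdeal (V (f.fiberι y z))).comap (toV _ (hfib z)), hmax _ (hfib z)⟩
  have key : ∀ z z', connectedComponent z ≠ connectedComponent z' → M z ≠ M z' := by
    intro z z' hne heq
    obtain ⟨W, hW, hyW, b, hb⟩ := exists_separating_points f y _ (isClopen_connectedComponent' z)
    have hmem : ∀ z : f.fiber y, f.fiberι y z ∈ f ⁻¹ᵁ W := fun z => by
      show f (f.fiberι y z) ∈ W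
      rw [hfib z]; exact hyW
    have hη : genericPoint X ∈ f ⁻¹ᵁ W := (genericPoint_specializes _).mem_open (f ⁻¹ᵁ W).2 (hmem z)
    let β : X.functionField := X.presheaf.germ (f ⁻¹ᵁ W) (genericPoint X) hη b
    have hgerm : ∀ x (hx : x ∈ f ⁻¹ᵁ W) (s : Γ(X, f ⁻¹ᵁ W)),
        sη x (X.presheaf.germ _ x hx s) = X.presheaf.germ _ (genericPoint X) hη s :=
      fun x hx s => TopCat.Presheaf.germ_stalkSpecializes_apply X.presheaf hx (genericPoint_specializes x) s
    have hβ : IsIntegral (Y.presheaf.stalk y) β := by
      letI := (f.app W).hom.toAlgebra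
      have hbint : IsIntegral Γ(Y, W) b := isIntegral_section_preimage f hW b
      refine IsIntegral.map_of_comp_eq (Y.presheaf.germ W y hyW).hom
        (X.presheaf.germ (f ⁻¹ᵁ W) (genericPoint X) hη).hom ?_ hbint
      apply RingHom.ext; intro r
      show CohIII.stalkToFunctionField f y h (Y.presheaf.germ W y hyW r) =
        X.presheaf.germ (f ⁻¹ᵁ W) (genericPoint X) hη (f.app W r)
      show f.stalkMap (genericPoint X) (Y.presheaf.stalkSpecializes h (Y.presheaf.germ W y hyW r)) = _
      rw [TopCat.Presheaf.germ_stalkSpecializes_apply, Scheme.Hom.germ_stalkMap_apply]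
    have hin : ∀ (z : f.fiber y) (c : Γ(X, f ⁻¹ᵁ W)) (γ : B),
        X.presheaf.germ _ (genericPoint X) hη c = (γ : X.functionField) → ev _ (hmem z) c = 0 →
        γ ∈ (M z).asIdeal := by
      intro z c γ hγ hc
      have h0 : X.presheaf.germ _ _ (hmem z) c ∈ IsLocalRing.maximalIdeal _ :=
        (IsLocalRing.residue_eq_zero_iff _).1 hc
      have h4 := ((IsLocalRing.local_hom_TFAE (sV (f.fiberι y z))).out 0 4).1
        (hlocV _)
      have h1 := Ideal.mem_comap.1 (h4.ge h0)
      show toV _ (hfib z) γ ∈ IsLocalRing.maximalIdeal _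
      convert h1 using 1
      exact Subtype.ext ((hgerm _ (hmem z) c).trans hγ).symm
    have h1 : (⟨β, hβ⟩ : B) ∈ (M z).asIdeal := hin z b _ rfl ((hb z (hmem z)).1 mem_connectedComponent)
    have h2 : (1 - ⟨β, hβ⟩ : B) ∈ (M z').asIdeal := by
      refine hin z' (1 - b) _ (by rw [map_sub, map_one]; rfl) ?_
      rw [map_sub, map_one, sub_eq_zero]
      exact ((hb z' (hmem z')).2 fun hm => hne (connectedComponent_eq hm)).symm
    rw [heq] at h1
    have h3 := (M z').asIdeal.add_mem h1 h2
    have h4 : (⟨β, hβ⟩ : B) + (1 - ⟨β, hβ⟩) = 1 := add_sub_cancel _ _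
    replace h3 : (1 : B) ∈ (M z').asIdeal := h4 ▸ h3
    exact (M z').isMaximal.ne_top ((Ideal.eq_top_iff_one _).2 h3)
  let rep : _root_.ConnectedComponents ↥(f.fiber y) → f.fiber y :=
    Function.surjInv ConnectedComponents.surjective_coe
  refine ⟨fun c => M (rep c), fun c c' hcc => ?_⟩
  by_contra hne
  refine key (rep c) (rep c') (fun he => hne ?_) hcc
  rw [← Function.surjInv_eq ConnectedComponents.surjective_coe c,
    ← Function.surjInv_eq ConnectedComponents.surjective_coe c']
  exact ConnectedComponents.coe_eq_coe.2 he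

end GrothLib.Stein

namespace GrothLib.Stein

variable {X Y : Scheme.{u}}

theorem card_components_le [IsIntegral X] [IsIntegral Y] [IsLocallyNoetherian Y] (f : X ⟶ Y) [IsProper f]
    (hdom : f.base (genericPoint X) ⤳ genericPoint Y) [Algebra Y.functionField X.functionField]
    (halg : algebraMap Y.functionField X.functionField = CohIII.stalkToFunctionField f (genericPoint Y) hdom)
    (n : ℕ) (hn0 : 0 < n)
    (hn : Field.finSepDegree Y.functionField (algebraicClosure Y.functionField X.functionField) = n)
    (y : Y) (hy : IsLocalRing (integralClosure (Y.presheaf.stalk y) Y.functionField)) :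
    Finite (_root_.ConnectedComponents ↥(f.fiber y)) ∧
      Nat.card (_root_.ConnectedComponents ↥(f.fiber y)) ≤ n := by
  have h : f.base (genericPoint X) ⤳ y := hdom.trans (genericPoint_specializes y)
  letI := (CohIII.stalkToFunctionField f y h).toAlgebra
  haveI : IsScalarTower (Y.presheaf.stalk y) Y.functionField X.functionField :=
    IsScalarTower.of_algebraMap_eq fun r => by
      rw [halg]
      show f.stalkMap (genericPoint X) (Y.presheaf.stalkSpecializes h r) =
        f.stalkMap (genericPoint X) (Y.presheaf.stalkSpecializes hdom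
          (Y.presheaf.stalkSpecializes (genericPoint_specializes y) r))
      rw [TopCat.Presheaf.stalkSpecializes_comp_apply]
  obtain ⟨hfin, hcard⟩ := finite_maximalSpectrum_of_unibranch (R := Y.presheaf.stalk y) (K := Y.functionField)
    (E := X.functionField) n hn0 hn
  obtain ⟨Φ, hΦ⟩ := exists_injective_componentsToMax f y h
  haveI : Finite (MaximalSpectrum (CohIII.integralClosureStalk f y h)) := hfin
  exact ⟨Finite.of_injective Φ hΦ, (Nat.card_le_card_of_injective Φ hΦ).trans hcard⟩

theorem connectedSpace_fiber_of_purelyInseparable [IsIntegral X] [IsIntegral Y] [IsLocallyNoetherian Y]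
    (f : X ⟶ Y) [IsProper f]
    (hdom : f.base (genericPoint X) ⤳ genericPoint Y)
    (hrad : ∀ x : X.functionField,
      (∃ q : Polynomial Y.functionField, q ≠ 0 ∧
        Polynomial.eval₂ (CohIII.stalkToFunctionField f (genericPoint Y) hdom) x q = 0) →
      ∃ e : ℕ, x ^ (ringExpChar X.functionField ^ e) ∈
        Set.range (CohIII.stalkToFunctionField f (genericPoint Y) hdom))
    (y : Y) (hy : IsLocalRing (integralClosure (Y.presheaf.stalk y) Y.functionField)) :
    ConnectedSpace ↥(f.fiber y) := by
  letI : Algebra Y.functionField X.functionField :=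
    (CohIII.stalkToFunctionField f (genericPoint Y) hdom).toAlgebra
  let q := ringExpChar Y.functionField
  have hq : ringExpChar X.functionField = q := by
    haveI : ExpChar X.functionField q := expChar_of_injective_ringHom
      (algebraMap Y.functionField X.functionField).injective q
    exact ringExpChar.eq _ q
  haveI : IsPurelyInseparable Y.functionField (algebraicClosure Y.functionField X.functionField) := by
    rw [isPurelyInseparable_iff_pow_mem Y.functionField q]
    intro x
    obtain ⟨p, hp0, hp⟩ := (mem_algebraicClosure_iff.1 x.2 : IsAlgebraic Y.functionField x.1)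
    obtain ⟨e, a, ha⟩ := hrad x.1 ⟨p, hp0, hp⟩
    exact ⟨e, a, Subtype.ext (by rw [← hq]; exact ha)⟩
  obtain ⟨hfin, hcard⟩ := card_components_le f hdom rfl 1 one_pos
    (IsPurelyInseparable.finSepDegree_eq_one _ _) y hy
  haveI : Subsingleton (_root_.ConnectedComponents ↥(f.fiber y)) :=
    Finite.card_le_one_iff_subsingleton.1 hcard
  haveI : PreconnectedSpace ↥(f.fiber y) := by
    refine preconnectedSpace_iff_connectedComponent.2 ?_
    intro a
    exact Set.eq_univ_of_forall fun b => ConnectedComponents.coe_eq_coe'.1 (Subsingleton.elim _ _)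
  have hne : Nonempty ↥(f.fiber y) := by
    have he : f.base (genericPoint X) = genericPoint Y :=
      (hdom.antisymm (genericPoint_specializes _)).eq
    have hc : IsClosed (Set.range f.base) := f.isClosedMap.isClosed_range
    have hy' : y ∈ Set.range f.base := (genericPoint_specializes y).mem_closed hc ⟨_, he⟩
    obtain ⟨x, hx⟩ := hy'
    obtain ⟨z, -⟩ := (f.range_fiberι y).ge (show x ∈ f ⁻¹' {y} from hx)
    exact ⟨z⟩
  exact { toNonempty := hne }

theorem isLocalRing_integralClosure_of_isIntegrallyClosed {R K : Type u} [CommRing R] [IsLocalRing R]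
    [IsDomain R] [Field K] [Algebra R K] [IsFractionRing R K] [IsIntegrallyClosed R] :
    IsLocalRing (integralClosure R K) :=
  IsLocalRing.of_surjective' (algebraMap R (integralClosure R K)) fun x => by
    obtain ⟨r, hr⟩ := IsIntegrallyClosed.algebraMap_eq_of_integral x.2
    exact ⟨r, Subtype.ext hr⟩

/-- **Zariski's main theorem, connectedness form.** -/
theorem connectedSpace_fiber_of_birational [IsIntegral X] [IsIntegral Y] [IsLocallyNoetherian Y]
    (f : X ⟶ Y) [IsProper f] (hgen : f.base (genericPoint X) = genericPoint Y)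
    (hbir : IsIso (f.stalkMap (genericPoint X))) (y : Y)
    (hy : IsLocalRing (integralClosure (Y.presheaf.stalk y) Y.functionField)) :
    ConnectedSpace ↥(f.fiber y) := by
  have hdom : f.base (genericPoint X) ⤳ genericPoint Y := specializes_of_eq hgen
  refine connectedSpace_fiber_of_purelyInseparable f hdom (fun x _ => ⟨0, ?_⟩) y hy
  rw [pow_zero, pow_one]
  obtain ⟨a, rfl⟩ := (ConcreteCategory.bijective_of_isIso (f.stalkMap (genericPoint X))).2 x
  refine ⟨Y.presheaf.stalkSpecializes (specializes_of_eq hgen.symm) a, ?_⟩
  show f.stalkMap (genericPoint X) (Y.presheaf.stalkSpecializes hdom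
    (Y.presheaf.stalkSpecializes (specializes_of_eq hgen.symm) a)) = _
  rw [TopCat.Presheaf.stalkSpecializes_comp_apply]
  simp

end GrothLib.Stein
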