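import Groth.Agent.Lib.Stein.Sep
import Groth.Agent.Lib.BCCrit.DimBound
import Groth.Agent.Lib.Japanese.IntegralSpec
import Groth.Prelude.Def_ega3
import Mathlib.AlgebraicGeometry.Normalization

/-! # Connected components of fibres and the Stein factorisation -/

set_option autoImplicit false
set_option linter.style.haveILetI false
universe u

open CategoryTheory CategoryTheory.Limits AlgebraicGeometry Opposite TopologicalSpace

namespace GrothLib.Stein

open GrothLib.PropH0

variable {X Y : Scheme.{u}}

theorem noetherianSpace_fiber' (f : X ⟶ Y) [IsProper f] (y : Y) : NoetherianSpace ↥(f.fiber y) := by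
  haveI : IsProper (f.fiberToSpecResidueField y) := inferInstanceAs (IsProper (pullback.snd f _))
  haveI : IsLocallyNoetherian (f.fiber y) := LocallyOfFiniteType.isLocallyNoetherian (f.fiberToSpecResidueField y)
  haveI : CompactSpace ↥(f.fiber y) := QuasiCompact.compactSpace_of_compactSpace (f.fiberToSpecResidueField y)
  haveI : IsNoetherian (f.fiber y) := {}
  infer_instance

/-- A set of a Noetherian quasi-sober space stable under specialization and generalization is clopen. -/
theorem isClopen_of_stable {T : Type u} [TopologicalSpace T] [NoetherianSpace T] [QuasiSober T] (S : Set T)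
    (h : ∀ a b : T, a ⤳ b → (a ∈ S ↔ b ∈ S)) : IsClopen S := by
  have hc : ∀ S : Set T, (∀ a b : T, a ⤳ b → (a ∈ S ↔ b ∈ S)) → IsClosed S := by
    intro S h
    have : S = ⋃ Z ∈ {Z ∈ irreducibleComponents T | Z ⊆ S}, Z := by
      refine Set.Subset.antisymm (fun x hx => ?_) (Set.iUnion₂_subset fun Z hZ => hZ.2)
      have hZ : irreducibleComponent x ∈ irreducibleComponents T := irreducibleComponent_mem_irreducibleComponents x
      obtain ⟨ξ, hξ⟩ := QuasiSober.sober isIrreducible_irreducibleComponent (isClosed_of_mem_irreducibleComponents _ hZ)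
      refine Set.mem_biUnion ⟨hZ, fun z hz => ?_⟩ mem_irreducibleComponent
      exact (h ξ z (hξ.specializes hz)).1 ((h ξ x (hξ.specializes mem_irreducibleComponent)).2 hx)
    rw [this]
    exact (NoetherianSpace.finite_irreducibleComponents.subset (Set.sep_subset _ _)).isClosed_biUnion
      fun Z hZ => isClosed_of_mem_irreducibleComponents _ hZ.1
  exact ⟨hc S h, isClosed_compl_iff.1 (hc Sᶜ fun a b hab => not_congr (h a b hab))⟩

theorem isClopen_connectedComponent' {T : Type u} [TopologicalSpace T] [NoetherianSpace T] [QuasiSober T] (x : T) :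
    IsClopen (connectedComponent x) :=
  isClopen_of_stable _ fun a b hab => by
    have hb : b ∈ connectedComponent a :=
      isPreconnected_singleton.closure.subset_connectedComponent (subset_closure rfl)
        (specializes_iff_mem_closure.1 hab)
    constructor <;> intro h
    · exact connectedComponent_eq h ▸ hb
    · rw [connectedComponent_eq h, ← connectedComponent_eq hb]
      exact mem_connectedComponent

/-- Values of a function on a fibre in two components can be prescribed near the point. -/
theorem exists_separating_points (f : X ⟶ Y) [IsProper f] [IsLocallyNoetherian Y] (y : Y)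
    (S : Set ↥(f.fiber y)) (hS : IsClopen S) :
    ∃ (V : Y.Opens), IsAffineOpen V ∧ ∃ hyV : y ∈ V, ∃ b : Γ(X, f ⁻¹ᵁ V),
      ∀ (z : f.fiber y) (hz : f.fiberι y z ∈ f ⁻¹ᵁ V),
        (z ∈ S → ev (f.fiberι y z) hz b = 0) ∧ (z ∉ S → ev (f.fiberι y z) hz b = 1) := by
  have hemb := (f.fiberι y).isEmbedding
  have key : ∀ R : Set ↥(f.fiber y), IsClosed R →
      closure (f.fiberι y '' R) ∩ f ⁻¹' {y} = f.fiberι y '' R := fun R hR => by
    rw [← f.range_fiberι y, ← Set.image_preimage_eq_inter_range, ← hemb.closure_eq_preimage_closure_image,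
      hR.closure_eq]
  obtain ⟨V, hV, hyV, b, hb⟩ := exists_separating f y (f.fiberι y '' S) (f.fiberι y '' Sᶜ) (key S hS.1)
    (key Sᶜ hS.2.isClosed_compl)
    (by rw [← Set.image_union, Set.union_compl_self, Set.image_univ, f.range_fiberι y])
    (Set.disjoint_image_of_injective hemb.injective disjoint_compl_right)
  exact ⟨V, hV, hyV, b, fun z hz => ⟨fun h => (hb _ hz).1 ⟨z, h, rfl⟩, fun h => (hb _ hz).2 ⟨z, h, rfl⟩⟩⟩

/-- **Zariski connectedness**: fibres are preconnected when functions on preimages of affines come from the base. -/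
theorem preconnectedSpace_fiber (f : X ⟶ Y) [IsProper f] [IsLocallyNoetherian Y] (y : Y)
    (hf : ∀ V : Y.Opens, IsAffineOpen V → y ∈ V → Function.Surjective (f.app V)) :
    PreconnectedSpace ↥(f.fiber y) := by
  refine preconnectedSpace_iff_clopen.2 fun S hS => ?_
  obtain ⟨V, hV, hyV, b, hb⟩ := exists_separating_points f y S hS
  obtain ⟨r, rfl⟩ := hf V hV hyV b
  by_contra hne
  obtain ⟨hne₁, hne₂⟩ := not_or.1 hne
  obtain ⟨z, hz⟩ := Set.nonempty_iff_ne_empty.2 hne₁
  obtain ⟨z', hz'⟩ := (Set.ne_univ_iff_exists_notMem S).1 hne₂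
  have hmem : ∀ z : f.fiber y, f.fiberι y z ∈ f ⁻¹ᵁ V := fun z => by
    show f (f.fiberι y z) ∈ V
    rw [show f (f.fiberι y z) = y from (f.range_fiberι y).le ⟨z, rfl⟩]; exact hyV
  have hiff : ∀ z : f.fiber y, (f.fiberι y z ∈ X.basicOpen (f.app V r) ↔ y ∈ Y.basicOpen r) := fun z => by
    rw [← Scheme.preimage_basicOpen]
    show f (f.fiberι y z) ∈ Y.basicOpen r ↔ _
    rw [show f (f.fiberι y z) = y from (f.range_fiberι y).le ⟨z, rfl⟩]
  have h0 := (X.evaluation_eq_zero_iff_notMem_basicOpen _ (hmem z) _).1 ((hb z (hmem z)).1 hz)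
  have h1 := (X.evaluation_ne_zero_iff_mem_basicOpen _ (hmem z') _).1
    (by rw [show ev (f.fiberι y z') (hmem z') (f.app V r) = 1 from (hb z' (hmem z')).2 hz']; exact one_ne_zero)
  exact h0 ((hiff z).2 ((hiff z').1 h1))

/-- A proper morphism with injective maps on functions is surjective. -/
theorem nonempty_fiber (f : X ⟶ Y) [UniversallyClosed f] (y : Y)
    (hf : ∀ V : Y.Opens, Function.Injective (f.app V)) : Nonempty ↥(f.fiber y) := by
  by_contra hne
  obtain ⟨W, hyW, hW⟩ := exists_open_avoid f (y := y) isClosed_univ fun x _ hxy => by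
    obtain ⟨z, -⟩ := (f.range_fiberι y).ge (show x ∈ f ⁻¹' {y} from hxy)
    exact hne ⟨z⟩
  have he : f ⁻¹ᵁ W = ⊥ := le_bot_iff.1 fun x hx => (hW x trivial hx).elim
  haveI : Subsingleton Γ(X, f ⁻¹ᵁ W) := by rw [he]; infer_instance
  have h1 : (1 : Γ(Y, W)) = 0 := hf W (Subsingleton.elim _ _)
  have h2 := congrArg (Y.presheaf.germ W y hyW) h1
  rw [map_one, map_zero] at h2
  exact one_ne_zero h2

theorem connectedSpace_fiber (f : X ⟶ Y) [IsProper f] [IsLocallyNoetherian Y] (y : Y)
    (hf : ∀ V : Y.Opens, IsIso (f.app V)) : ConnectedSpace ↥(f.fiber y) := by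
  haveI := preconnectedSpace_fiber f y fun V _ _ => (ConcreteCategory.bijective_of_isIso (f.app V)).2
  haveI := nonempty_fiber f y fun V => (ConcreteCategory.bijective_of_isIso (f.app V)).1
  exact { toNonempty := inferInstance }

/-! ### Stein factorisation -/

/-- Functions on the preimage of an affine open are integral over it. -/
theorem isIntegral_section_preimage (f : X ⟶ Y) [UniversallyClosed f] {V : Y.Opens}
    (hV : IsAffineOpen V) (b : Γ(X, f ⁻¹ᵁ V)) :
    letI := (f.app V).hom.toAlgebra; IsIntegral Γ(Y, V) b := by
  haveI : IsAffine (V : Scheme.{u}) := hV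
  haveI : UniversallyClosed (f ∣_ V) := MorphismProperty.of_isPullback (isPullback_morphismRestrict f V).flip ‹_›
  have e : f.app V = V.topIso.inv ≫ (f ∣_ V).appTop ≫ (f ⁻¹ᵁ V).topIso.hom := by
    simp [Scheme.Hom.app_eq_appLE]
    erw [Scheme.Hom.appLE_map, Scheme.Hom.map_appLE]
  have hint : (f.app V).hom.IsIntegral := by
    rw [e, CommRingCat.hom_comp, CommRingCat.hom_comp]
    refine RingHom.IsIntegral.trans _ _ ?_ (RingHom.IsIntegral.trans _ _ ?_ ?_)
    · exact RingHom.isIntegral_of_surjective _ (ConcreteCategory.bijective_of_isIso V.topIso.inv).2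
    · exact isIntegral_appTop_of_universallyClosed (f ∣_ V)
    · exact RingHom.isIntegral_of_surjective _ (ConcreteCategory.bijective_of_isIso (f ⁻¹ᵁ V).topIso.hom).2
  exact hint b

/-- Over an affine open the relative normalization has all functions of the preimage. -/
theorem surjective_toNormalization_appLE (f : X ⟶ Y) [UniversallyClosed f] [QuasiSeparated f] {V : Y.Opens}
    (hV : IsAffineOpen V) :
    Function.Surjective (f.toNormalization.appLE (f.fromNormalization ⁻¹ᵁ V) (f ⁻¹ᵁ V)
      (by simp [← Scheme.Hom.comp_preimage])) := by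
  intro b
  letI := (f.app V).hom.toAlgebra
  have hb : IsIntegral Γ(Y, V) b := isIntegral_section_preimage f hV b
  refine ⟨(f.normalizationObjIso hV).inv ⟨b, hb⟩, ?_⟩
  rw [← Scheme.Hom.normalizationObjIso_hom_val f hV]
  show ((f.normalizationObjIso hV).hom ((f.normalizationObjIso hV).inv ⟨b, hb⟩)).1 = b
  rw [Iso.inv_hom_id_apply]

/-- The fibre map to the relative normalization. -/
theorem fiberι_fiberMapOver (f : X ⟶ Y) [QuasiCompact f] [QuasiSeparated f] (y : Y) :
    CohIII.fiberMapOver f.toNormalization f f.fromNormalization f.toNormalization_fromNormalization y ≫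
        f.fromNormalization.fiberι y = f.fiberι y ≫ f.toNormalization :=
  pullback.lift_fst _ _ _

theorem surjective_toNormalization (f : X ⟶ Y) [IsProper f] : Function.Surjective f.toNormalization.base := by
  haveI : UniversallyClosed (f.toNormalization ≫ f.fromNormalization) := by
    rw [f.toNormalization_fromNormalization]; infer_instance
  haveI : UniversallyClosed f.toNormalization := .of_comp_of_isSeparated _ f.fromNormalization
  intro n
  have h1 : IsClosed (Set.range f.toNormalization.base) := f.toNormalization.isClosedMap.isClosed_range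
  have h2 := f.toNormalization.denseRange.closure_range
  rw [h1.closure_eq] at h2
  exact h2.ge trivial

theorem surjective_fiberMapOver (f : X ⟶ Y) [IsProper f] (y : Y) :
    Function.Surjective (CohIII.fiberMapOver f.toNormalization f f.fromNormalization
      f.toNormalization_fromNormalization y).base := by
  intro n
  obtain ⟨x, hx⟩ := surjective_toNormalization f (f.fromNormalization.fiberι y n)
  have hxy : f x = y := by
    rw [← congr($(f.toNormalization_fromNormalization) x), Scheme.Hom.comp_apply, hx]
    exact (f.fromNormalization.range_fiberι y).le ⟨n, rfl⟩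
  obtain ⟨z, rfl⟩ := (f.range_fiberι y).ge (show x ∈ f ⁻¹' {y} from hxy)
  refine ⟨z, (f.fromNormalization.fiberι y).isEmbedding.injective ?_⟩
  rw [← Scheme.Hom.comp_apply, fiberι_fiberMapOver, Scheme.Hom.comp_apply]
  exact hx

/-- **The fibre of the Stein factorisation is the set of connected components of the fibre.** -/
theorem fiberMapOver_eq_iff (f : X ⟶ Y) [IsProper f] [IsLocallyNoetherian Y] (y : Y) (x x' : f.fiber y) :
    (CohIII.fiberMapOver f.toNormalization f f.fromNormalization f.toNormalization_fromNormalization y).base x =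
      (CohIII.fiberMapOver f.toNormalization f f.fromNormalization f.toNormalization_fromNormalization y).base x' ↔
      connectedComponent x = connectedComponent x' := by
  haveI := noetherianSpace_fiber' f y
  set h := CohIII.fiberMapOver f.toNormalization f f.fromNormalization f.toNormalization_fromNormalization y
  have hι : ∀ z, f.fromNormalization.fiberι y (h z) = f.toNormalization (f.fiberι y z) := fun z => by
    rw [← Scheme.Hom.comp_apply, fiberι_fiberMapOver, Scheme.Hom.comp_apply]
  constructor
  · intro hxx
    by_contra hne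
    obtain ⟨V, hV, hyV, b, hb⟩ := exists_separating_points f y _ (isClopen_connectedComponent' x)
    obtain ⟨a, rfl⟩ := surjective_toNormalization_appLE f hV b
    have hmem : ∀ z : f.fiber y, f.fiberι y z ∈ f ⁻¹ᵁ V := fun z => by
      show f (f.fiberι y z) ∈ V
      rw [show f (f.fiberι y z) = y from (f.range_fiberι y).le ⟨z, rfl⟩]; exact hyV
    have hiff : ∀ z : f.fiber y, f.fiberι y z ∈ X.basicOpen (f.toNormalization.appLE (f.fromNormalization ⁻¹ᵁ V)
        (f ⁻¹ᵁ V) (by simp [← Scheme.Hom.comp_preimage]) a) ↔
        f.fromNormalization.fiberι y (h z) ∈ f.normalization.basicOpen a := fun z => by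
      rw [Scheme.basicOpen_appLE, hι]
      exact ⟨fun hm => hm.2, fun hm => ⟨hmem z, hm⟩⟩
    have hx' : x' ∉ connectedComponent x := fun hm => hne (connectedComponent_eq hm)
    have h0 := (X.evaluation_eq_zero_iff_notMem_basicOpen _ (hmem x) _).1
      ((hb x (hmem x)).1 mem_connectedComponent)
    refine h0 ((hiff x).2 (hxx ▸ (hiff x').1 ?_))
    refine (X.evaluation_ne_zero_iff_mem_basicOpen _ (hmem x') _).1 ?_
    rw [show ev (f.fiberι y x') (hmem x') (f.toNormalization.appLE _ _ _ a) = 1 from (hb x' (hmem x')).2 hx']
    exact one_ne_zero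
  · intro hc
    have hS : IsClopen {z | h.base z = h.base x} := isClopen_of_stable _ fun a b hab => by
      have h1 : f.fromNormalization.fiberι y (h a) ⤳ f.fromNormalization.fiberι y (h b) :=
        (hab.map h.continuous).map (f.fromNormalization.fiberι y).continuous
      have h2 := Japanese.eq_of_specializes_of_isIntegralHom f.fromNormalization h1
        (((f.fromNormalization.range_fiberι y).le ⟨h a, rfl⟩).trans
          ((f.fromNormalization.range_fiberι y).le ⟨h b, rfl⟩).symm)
      have h3 : h a = h b := (f.fromNormalization.fiberι y).isEmbedding.injective h2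
      show h a = h x ↔ h b = h x
      rw [h3]
    exact ((hS.connectedComponent_subset (show h.base x = h.base x from rfl))
      (hc.symm ▸ mem_connectedComponent : x' ∈ connectedComponent x)).symm

/-- The Stein factorisation has finite fibres. -/
theorem finite_fiber_fromNormalization (f : X ⟶ Y) [IsProper f] [IsLocallyNoetherian Y] (y : Y) :
    Finite ↥(f.fromNormalization.fiber y) := by
  haveI := noetherianSpace_fiber' f y
  have hs := surjective_fiberMapOver f y
  let F : irreducibleComponents ↥(f.fiber y) → ↥(f.fromNormalization.fiber y) := fun Z =>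
    (CohIII.fiberMapOver f.toNormalization f f.fromNormalization f.toNormalization_fromNormalization y).base
      (Z.2.1.nonempty).some
  haveI : Finite (irreducibleComponents ↥(f.fiber y)) := NoetherianSpace.finite_irreducibleComponents.to_subtype
  refine Finite.of_surjective F fun n => ?_
  obtain ⟨z, rfl⟩ := hs n
  refine ⟨⟨irreducibleComponent z, irreducibleComponent_mem_irreducibleComponents z⟩, ?_⟩
  refine (fiberMapOver_eq_iff f y _ z).2 (connectedComponent_eq ?_).symm
  exact (isIrreducible_irreducibleComponent (x := z)).2.isPreconnected.subset_connectedComponent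
    mem_irreducibleComponent (Set.Nonempty.some_mem _)

end GrothLib.Stein
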