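import Groth.Agent.Lib.Stein.GeomConn
import Groth.Agent.Lib.BaseChange.AlgClosedIn
import Groth.Agent.Lib.Stein.Main
import Mathlib.AlgebraicGeometry.Morphisms.Flat
import Mathlib.RingTheory.AdjoinRoot
import Mathlib.FieldTheory.PrimitiveElement
import Mathlib.RingTheory.Polynomial.ScaleRoots

/-! # Geometric connectedness of fibres when functions come from the base -/

set_option autoImplicit false
set_option linter.style.haveILetI false
universe u

open CategoryTheory CategoryTheory.Limits AlgebraicGeometry TopologicalSpace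

namespace GrothLib.Stein

variable {X Y : Scheme.{u}}

/-- Connected fibres from bijectivity on affine neighbourhoods. -/
theorem connectedSpace_fiber' (f : X ⟶ Y) [IsProper f] [IsLocallyNoetherian Y] (y : Y)
    (hf : ∀ V : Y.Opens, IsAffineOpen V → y ∈ V → IsIso (f.app V)) : ConnectedSpace ↥(f.fiber y) := by
  haveI := preconnectedSpace_fiber f y fun V hV hy => by
    haveI := hf V hV hy
    exact (ConcreteCategory.bijective_of_isIso (f.app V)).2
  have hne : Nonempty ↥(f.fiber y) := by
    by_contra hne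
    obtain ⟨W, hyW, hW⟩ := exists_open_avoid f (y := y) isClosed_univ fun x _ hxy => by
      obtain ⟨z, -⟩ := (f.range_fiberι y).ge (show x ∈ f ⁻¹' {y} from hxy)
      exact hne ⟨z⟩
    obtain ⟨V, hV, hyV, hVW⟩ := exists_isAffineOpen_mem_and_subset hyW
    have he : f ⁻¹ᵁ V = ⊥ := le_bot_iff.1 fun x hx => (hW x trivial (hVW hx)).elim
    haveI : Subsingleton Γ(X, f ⁻¹ᵁ V) := by rw [he]; infer_instance
    haveI := hf V hV hyV
    have h1 : (1 : Γ(Y, V)) = 0 := (ConcreteCategory.bijective_of_isIso (f.app V)).1 (Subsingleton.elim _ _)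
    have h2 := congrArg (Y.presheaf.germ V y hyV) h1
    rw [map_one, map_zero] at h2
    exact one_ne_zero h2
  exact { toNonempty := hne }

/-- Functions on a flat base change. -/
theorem isIso_app_snd {T : Scheme.{u}} (f : X ⟶ Y) [QuasiCompact f] [QuasiSeparated f] (g : T ⟶ Y) [Flat g]
    {V : Y.Opens} (hV : IsAffineOpen V) [IsIso (f.app V)] {U : T.Opens} (hU : IsAffineOpen U)
    (hUV : U ≤ g ⁻¹ᵁ V) : IsIso ((pullback.snd f g).app U) := by
  have H := IsPullback.of_hasPullback f g
  have hUY : pullback.snd f g ⁻¹ᵁ U = pullback.fst f g ⁻¹ᵁ (f ⁻¹ᵁ V) ⊓ pullback.snd f g ⁻¹ᵁ U := by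
    refine (inf_eq_right.2 fun x hx => ?_).symm
    show f (pullback.fst f g x) ∈ V
    rw [← Scheme.Hom.comp_apply, pullback.condition, Scheme.Hom.comp_apply]
    exact hUV hx
  have h1 := (isIso_pushoutSection_iff H hUV le_rfl hUY).1
    (isIso_pushoutSection_of_isQuasiSeparated_of_flat_right H hUV le_rfl hUY hV hU
      (f.isCompact_preimage hV.isCompact) (f.isQuasiSeparated_preimage hV.isQuasiSeparated))
  haveI : IsIso (f.appLE V (f ⁻¹ᵁ V) le_rfl) := by rwa [← Scheme.Hom.app_eq_appLE]
  haveI := h1.isIso_inr_of_isIso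
  rw [Scheme.Hom.app_eq_appLE]
  assumption

/-- **Fibres are geometrically connected where the functions come from the base.** -/
theorem geometricallyConnected_fiber (f : X ⟶ Y) [IsProper f] [IsLocallyNoetherian Y] (y : Y) {W : Y.Opens}
    (hW : IsAffineOpen W) (hyW : y ∈ W) [IsIso (f.app W)] :
    GeometricallyConnected (f.fiberToSpecResidueField y) := by
  letI : (f.fiber y).Over (Spec (CommRingCat.of (Y.residueField y))) := ⟨f.fiberToSpecResidueField y⟩
  haveI : CompactSpace ↥(f.fiber y) :=
    QuasiCompact.compactSpace_of_compactSpace (f.fiberToSpecResidueField y)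
  refine geometricallyConnected_of_finite_levels (Y.residueField y) (f.fiber y) fun E hE => ?_
  haveI := hE
  let A := Γ(Y, W)
  haveI : IsNoetherianRing A := IsLocallyNoetherian.component_noetherian ⟨W, hW⟩
  let ev : A →+* Y.residueField y := (Y.residue y).hom.comp (Y.presheaf.germ W y hyW).hom
  letI := TopCat.Presheaf.algebra_section_stalk Y.presheaf (⟨y, hyW⟩ : W)
  haveI := hW.isLocalization_stalk ⟨y, hyW⟩
  have hfrac : ∀ c : Y.residueField y, ∃ a t : A, ev t ≠ 0 ∧ c * ev t = ev a := by
    intro c
    obtain ⟨s, rfl⟩ := Y.residue_surjective y c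
    obtain ⟨⟨a, t⟩, hat⟩ := IsLocalization.surj (hW.primeIdealOf ⟨y, hyW⟩).asIdeal.primeCompl s
    refine ⟨a, t, ?_, ?_⟩
    · show IsLocalRing.residue _ (algebraMap A (Y.presheaf.stalk y) t) ≠ 0
      exact (IsLocalRing.residue_ne_zero_iff_isUnit _).2 (IsLocalization.map_units _ t)
    · show IsLocalRing.residue _ s * IsLocalRing.residue _ (algebraMap A _ (t : A)) =
        IsLocalRing.residue _ (algebraMap A _ a)
      exact ((IsLocalRing.residue _).map_mul _ _).symm.trans (congrArg _ hat)
  obtain ⟨α, hα⟩ := Field.exists_primitive_element (Y.residueField y) E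
  let m := minpoly (Y.residueField y) α
  have hm : m.Monic := minpoly.monic (Algebra.IsIntegral.isIntegral α)
  choose a t ht hat using fun i => hfrac (m.coeff i)
  classical
  let T₀ : A := ∏ i ∈ Finset.range (m.natDegree), t i
  have hT₀ : ev T₀ ≠ 0 := by rw [map_prod]; exact Finset.prod_ne_zero_iff.2 fun i _ => ht i
  have hlift : m.scaleRoots (ev T₀) ∈ Polynomial.lifts ev := by
    rw [Polynomial.lifts_iff_coeff_lifts]
    intro i
    rw [Polynomial.coeff_scaleRoots]
    rcases lt_trichotomy i m.natDegree with hi | hi | hi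
    · obtain ⟨n, hn⟩ : ∃ n, m.natDegree - i = n + 1 := ⟨m.natDegree - i - 1, by omega⟩
      refine ⟨a i * (∏ j ∈ (Finset.range m.natDegree).erase i, t j) * T₀ ^ n, ?_⟩
      rw [hn, map_mul, map_mul, map_pow, ← hat, pow_succ']
      have hT : ev T₀ = ev (t i) * ev (∏ j ∈ (Finset.range m.natDegree).erase i, t j) := by
        rw [← map_mul, Finset.mul_prod_erase _ _ (Finset.mem_range.2 hi)]
      rw [hT]; ring
    · subst hi
      exact ⟨1, by rw [Nat.sub_self, pow_zero, mul_one, map_one]; exact hm.symm⟩
    · exact ⟨0, by rw [Polynomial.coeff_eq_zero_of_natDegree_lt hi, zero_mul, map_zero]⟩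
  obtain ⟨G, hG, -, hGm⟩ := Polynomial.lifts_and_degree_eq_and_monic hlift ((Polynomial.monic_scaleRoots_iff _).2 hm)
  let ι : A →+* E := (algebraMap (Y.residueField y) E).comp ev
  let β : E := algebraMap (Y.residueField y) E (ev T₀) * α
  have hβ : G.eval₂ ι β = 0 := by
    rw [← Polynomial.eval₂_map, hG]
    exact Polynomial.scaleRoots_eval₂_eq_zero _ (minpoly.aeval (Y.residueField y) α)
  let φ : AdjoinRoot G →+* E := AdjoinRoot.lift ι β hβ
  let g : Spec (CommRingCat.of (AdjoinRoot G)) ⟶ Y :=
    Spec.map (CommRingCat.ofHom (AdjoinRoot.of G)) ≫ hW.fromSpec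
  haveI : Module.Free A (AdjoinRoot G) := .of_basis (AdjoinRoot.powerBasis' hGm).basis
  haveI : Flat (Spec.map (CommRingCat.ofHom (AdjoinRoot.of G))) :=
    (HasRingHomProperty.Spec_iff (P := @Flat)).2
      ((RingHom.flat_algebraMap_iff (R := A) (S := AdjoinRoot G)).2 inferInstance)
  haveI : Flat g := inferInstanceAs (Flat (_ ≫ _))
  haveI : IsNoetherianRing (AdjoinRoot G) := inferInstance
  let π := pullback.snd f g
  let h : Spec (CommRingCat.of E) ⟶ Spec (CommRingCat.of (AdjoinRoot G)) := Spec.map (CommRingCat.ofHom φ)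
  let q := h default
  have hconn : ConnectedSpace ↥(π.fiber q) := by
    refine connectedSpace_fiber' π q fun U hU _ => isIso_app_snd f g hW hU fun x _ => ?_
    show hW.fromSpec (Spec.map (CommRingCat.ofHom (AdjoinRoot.of G)) x) ∈ W
    exact hW.range_fromSpec.le ⟨_, rfl⟩
  obtain ⟨ψ, hψ⟩ := GrothLib.BaseChange.exists_eq_fromSpecResidueField _ h (x := q) rfl
  let c := Spec.preimage ((Spec (CommRingCat.of (AdjoinRoot G))).fromSpecResidueField q)
  have hφ : CommRingCat.ofHom φ = c ≫ ψ := by
    apply Spec.map_injective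
    rw [Spec.map_comp, Spec.map_preimage]
    exact hψ
  have hψs : Function.Surjective ψ.hom := by
    let F : Subfield E := ψ.hom.fieldRange
    have hA : ∀ x, φ x ∈ F := fun x => ⟨c x, (congrArg (fun e : _ ⟶ CommRingCat.of E => e.hom x) hφ).symm⟩
    have hk : ∀ x, algebraMap (Y.residueField y) E x ∈ F := by
      intro x
      obtain ⟨a, t, ht, hx⟩ := hfrac x
      have e : algebraMap (Y.residueField y) E x = φ (AdjoinRoot.of G a) / φ (AdjoinRoot.of G t) := by
        rw [AdjoinRoot.lift_of, AdjoinRoot.lift_of]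
        show _ = algebraMap (Y.residueField y) E (ev a) / algebraMap (Y.residueField y) E (ev t)
        rw [← hx, map_mul, mul_div_cancel_right₀]
        exact (map_ne_zero (algebraMap (Y.residueField y) E)).2 ht
      rw [e]; exact div_mem (hA _) (hA _)
    let F' : IntermediateField (Y.residueField y) E := F.toIntermediateField hk
    have hαF : α ∈ F' := by
      have hb : β ∈ F := by
        have := hA (AdjoinRoot.root G)
        rwa [AdjoinRoot.lift_root] at this
      have h2 : α = β / algebraMap (Y.residueField y) E (ev T₀) := by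
        rw [mul_div_cancel_left₀]
        exact (map_ne_zero (algebraMap (Y.residueField y) E)).2 hT₀
      rw [h2]; exact div_mem hb (hk _)
    intro e
    have he : e ∈ F' := by
      have h3 : (⊤ : IntermediateField (Y.residueField y) E) ≤ F' :=
        hα.ge.trans (IntermediateField.adjoin_le_iff.2 (Set.singleton_subset_iff.2 hαF))
      exact h3 trivial
    exact he
  haveI : IsIso ψ := (ConcreteCategory.isIso_iff_bijective ψ).2 ⟨ψ.hom.injective, hψs⟩
  -- identify the level with the fibre of the base change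
  let σ : Spec (CommRingCat.of E) ⟶ Spec (Y.residueField y) :=
    Spec.map (CommRingCat.ofHom (algebraMap (Y.residueField y) E))
  have hσ : σ ≫ Y.fromSpecResidueField y = h ≫ g := by
    show _ = Spec.map (CommRingCat.ofHom φ) ≫ Spec.map (CommRingCat.ofHom (AdjoinRoot.of G)) ≫ hW.fromSpec
    rw [← Spec.map_comp_assoc, ← CommRingCat.ofHom_comp, AdjoinRoot.lift_comp_of,
      Scheme.fromSpecResidueField, ← hW.fromSpecStalk_eq_fromSpecStalk hyW, IsAffineOpen.fromSpecStalk,
      ← Spec.map_comp_assoc, ← Spec.map_comp_assoc]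
    rfl
  let r := (Spec (CommRingCat.of (AdjoinRoot G))).fromSpecResidueField q
  let e : pullback (f.fiberToSpecResidueField y) σ ≅ pullback (π.fiberToSpecResidueField q) (Spec.map ψ) :=
    pullbackLeftPullbackSndIso f (Y.fromSpecResidueField y) σ ≪≫ pullback.congrHom rfl hσ ≪≫
      (pullbackLeftPullbackSndIso f g h).symm ≪≫ pullback.congrHom rfl hψ ≪≫
        (pullbackLeftPullbackSndIso π r (Spec.map ψ)).symm
  show ConnectedSpace ↥(pullback (f.fiberToSpecResidueField y) σ)
  exact ((asIso (pullback.fst (π.fiberToSpecResidueField q) (Spec.map ψ))).inv ≫ e.inv).surjective.connectedSpace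
    ((asIso (pullback.fst (π.fiberToSpecResidueField q) (Spec.map ψ))).inv ≫ e.inv).continuous

end GrothLib.Stein
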