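import Groth.Agent.Lib.Stein.General
import Groth.Agent.Lib.ProjCoh.Generic
import Groth.Agent.S0002

/-!
# Finiteness of the Stein factor of a proper morphism
-/

set_option autoImplicit false
set_option backward.isDefEq.respectTransparency false
set_option linter.style.haveILetI false

universe u

open CategoryTheory CategoryTheory.Limits AlgebraicGeometry TopologicalSpace

namespace GrothLib.Stein

theorem finite_toGlobal (A : Type u) [CommRing A] [IsNoetherianRing A] {X : Scheme.{u}}
    (f : X ⟶ Spec (CommRingCat.of A)) [IsProper f] :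
    ((Scheme.ΓSpecIso (CommRingCat.of A)).inv ≫ f.appTop).hom.Finite := by
  letI : X.Over (Spec (CommRingCat.of A)) := ⟨f⟩
  haveI : IsProper (X ↘ Spec (CommRingCat.of A)) := ‹_›
  haveI : IsLocallyNoetherian X := LocallyOfFiniteType.isLocallyNoetherian f
  letI : Algebra A Γ(X, ⊤) := ((Scheme.ΓSpecIso (CommRingCat.of A)).inv ≫ f.appTop).hom.toAlgebra
  haveI := Groth.Agent.S0002.result A X (Coh.structureModule X) (GrothLib.HomSh.isCoh_structureModule X) 0
  let e : Coh.HH X (Coh.structureModule X) 0 →ₗ[A] Γ(X, ⊤) :=
    { toFun := fun x => (show Γ(X, ⊤) from GrothLib.ProjCoh.H0top (Coh.structureModule X) x)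
      map_add' := fun a b => (GrothLib.ProjCoh.H0top (Coh.structureModule X)).map_add a b
      map_smul' := fun a x => GrothLib.ProjCoh.H0top_smul (Coh.structureModule X) a x }
  exact Module.Finite.of_surjective e (GrothLib.ProjCoh.H0top (Coh.structureModule X)).surjective

theorem finite_appTop_of_isProper {X S : Scheme.{u}} (f : X ⟶ S) [IsProper f] [IsAffine S]
    [IsLocallyNoetherian S] : f.appTop.hom.Finite := by
  haveI : IsNoetherianRing Γ(S, ⊤) := IsLocallyNoetherian.component_noetherian ⟨⊤, isAffineOpen_top S⟩
  have h := finite_toGlobal Γ(S, ⊤) (f ≫ S.isoSpec.hom)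
  refine RingHom.finite_respectsIso.cancel_left_isIso
    ((Scheme.ΓSpecIso Γ(S, ⊤)).inv ≫ S.isoSpec.hom.appTop) f.appTop |>.1 ?_
  rw [← CommRingCat.hom_comp, Category.assoc, ← Scheme.Hom.comp_appTop]
  exact h

theorem finite_app_of_isProper {X S : Scheme.{u}} (f : X ⟶ S) [IsProper f] [IsLocallyNoetherian S]
    {U : S.Opens} (hU : IsAffineOpen U) : (f.app U).hom.Finite := by
  haveI : IsAffine U.toScheme := hU
  have h := finite_appTop_of_isProper (f ∣_ U)
  rw [morphismRestrict_appTop] at h
  have h2 := (RingHom.finite_respectsIso.cancel_right_isIso _ _).1 h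
  rwa [U.ι_image_top] at h2

theorem isFinite_fromNormalization {X S : Scheme.{u}} (f : X ⟶ S) [IsProper f] [IsLocallyNoetherian S] :
    IsFinite f.fromNormalization := by
  refine { finite_app := fun U hU => ?_ }
  have hb := bijective_toNormalization_app f (f.fromNormalization ⁻¹ᵁ U)
  haveI : IsIso (f.toNormalization.app (f.fromNormalization ⁻¹ᵁ U)) :=
    (ConcreteCategory.isIso_iff_bijective _).2 hb
  refine (RingHom.finite_respectsIso.cancel_right_isIso _
    (f.toNormalization.app (f.fromNormalization ⁻¹ᵁ U))).1 ?_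
  rw [← CommRingCat.hom_comp, ← Scheme.Hom.comp_app]
  haveI : IsProper (f.toNormalization ≫ f.fromNormalization) := by
    rw [f.toNormalization_fromNormalization]; infer_instance
  exact finite_app_of_isProper (f.toNormalization ≫ f.fromNormalization) hU

end GrothLib.Stein
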