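import Groth.Agent.Lib.Stein.FibrationBase
import Groth.Agent.Lib.AffDom.PointDim
import Groth.Agent.Lib.Dim.QuasiFinite
import Mathlib.RingTheory.Localization.Integral

/-! # Fibrations between integral schemes and function fields -/

set_option autoImplicit false
set_option linter.style.haveILetI false
universe u

open CategoryTheory CategoryTheory.Limits AlgebraicGeometry Opposite TopologicalSpace

namespace GrothLib.Stein

variable {X Y : Scheme.{u}}

/-- An element of the function field which lies in all local rings of `U` is a section over `U`. -/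
theorem exists_section_of_mem_stalks [IsIntegral X] {U : X.Opens} {x₀ : X} (hx₀ : x₀ ∈ U) (β : X.functionField)
    (h : ∀ z ∈ U, ∃ c : X.presheaf.stalk z, X.presheaf.stalkSpecializes (genericPoint_specializes z) c = β) :
    ∃ s : Γ(X, U), X.presheaf.germ U (genericPoint X) (genericPoint_mem hx₀) s = β := by
  have hloc : ∀ z (hz : z ∈ U), ∃ (W : X.Opens) (hzW : z ∈ W) (hWU : W ≤ U) (r : Γ(X, W)),
      X.presheaf.germ W (genericPoint X) (genericPoint_mem hzW) r = β := by
    intro z hz
    obtain ⟨c, hc⟩ := h z hz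
    obtain ⟨W₀, hzW₀, r, rfl⟩ := X.presheaf.exists_germ_eq c
    refine ⟨W₀ ⊓ U, ⟨hzW₀, hz⟩, inf_le_right, X.presheaf.map (homOfLE inf_le_left).op r, ?_⟩
    rw [TopCat.Presheaf.germ_res_apply, ← hc, TopCat.Presheaf.germ_stalkSpecializes_apply]
  choose W hzW hWU r hr using hloc
  have hcov : U ≤ ⨆ p : U, W p.1 p.2 := fun z hz => Opens.mem_iSup.2 ⟨⟨z, hz⟩, hzW z hz⟩
  obtain ⟨s, hs, -⟩ := X.sheaf.existsUnique_gluing' (fun p : U => W p.1 p.2) U
    (fun p => homOfLE (hWU p.1 p.2)) hcov (fun p => r p.1 p.2) (by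
      intro p q
      rcases ((W p.1 p.2 ⊓ W q.1 q.2 : X.Opens) : Set X).eq_empty_or_nonempty with he | ⟨z, hz⟩
      · have he' : W p.1 p.2 ⊓ W q.1 q.2 = ⊥ := SetLike.coe_injective he
        haveI hsub : Subsingleton Γ(X, W p.1 p.2 ⊓ W q.1 q.2) := by rw [he']; infer_instance
        exact hsub.elim _ _
      refine germ_injective_of_isIntegral X (genericPoint X) (genericPoint_mem hz) ?_
      refine (TopCat.Presheaf.germ_res_apply _ _ _ _ _).trans
        (Eq.trans ?_ (TopCat.Presheaf.germ_res_apply _ _ _ _ _).symm)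
      exact (hr p.1 p.2).trans (hr q.1 q.2).symm)
  refine ⟨s, ?_⟩
  rw [← hr x₀ hx₀, ← hs ⟨x₀, hx₀⟩]
  exact (TopCat.Presheaf.germ_res_apply _ _ _ _ _).symm

/-- A fibration from a normal scheme has algebraically closed function field extension. -/
theorem mem_range_of_isIso_app [IsIntegral X] [IsIntegral Y] (hX : Pi1.IsNormalScheme X) (f : X ⟶ Y)
    (hdom : f.base (genericPoint X) ⤳ genericPoint Y) (hf : ∀ U : Y.Opens, IsIso (f.app U))
    (x : X.functionField) (hx : (CohIII.stalkToFunctionField f (genericPoint Y) hdom).IsIntegralElem x) :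
    x ∈ (CohIII.stalkToFunctionField f (genericPoint Y) hdom).range := by
  let φ₀ := CohIII.stalkToFunctionField f (genericPoint Y) hdom
  obtain ⟨V, hV, hηV, -⟩ := exists_isAffineOpen_mem_and_subset (show genericPoint Y ∈ (⊤ : Y.Opens) from trivial)
  have : Nonempty V := ⟨⟨_, hηV⟩⟩
  haveI := functionField_isFractionRing_of_isAffineOpen Y V hV
  have hη := genericPoint_mem_preimage f hdom hηV
  letI := φ₀.toAlgebra
  letI : Algebra Γ(Y, V) X.functionField := (φ₀.comp (algebraMap Γ(Y, V) Y.functionField)).toAlgebra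
  haveI : IsScalarTower Γ(Y, V) Y.functionField X.functionField := IsScalarTower.of_algebraMap_eq fun _ => rfl
  obtain ⟨m, hm⟩ := IsIntegral.exists_multiple_integral_of_isLocalization (nonZeroDivisors Γ(Y, V))
    (Rₘ := Y.functionField) x hx
  let β := algebraMap Γ(Y, V) X.functionField m * x
  have hβ : IsIntegral Γ(Y, V) β := by
    have he : m • x = β := Algebra.smul_def (m : Γ(Y, V)) x
    rwa [he] at hm
  have hamap : ∀ r, algebraMap Γ(Y, V) X.functionField r =
      X.presheaf.germ (f ⁻¹ᵁ V) (genericPoint X) hη (f.app V r) := by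
    intro r
    refine Eq.trans ?_ (germ_app f hdom hηV r).symm
    show φ₀ (Y.germToFunctionField V r) = φ₀ _
    rw [TopCat.Presheaf.germ_stalkSpecializes_apply]
  have hst : ∀ z ∈ f ⁻¹ᵁ V,
      ∃ c : X.presheaf.stalk z, X.presheaf.stalkSpecializes (genericPoint_specializes z) c = β := by
    intro z hz
    haveI := (hX z).2
    haveI := (hX z).1
    let g : Γ(Y, V) →+* X.presheaf.stalk z := (X.presheaf.germ (f ⁻¹ᵁ V) z hz).hom.comp (f.app V).hom
    have hint : IsIntegral (X.presheaf.stalk z) β := by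
      refine IsIntegral.map_of_comp_eq g (RingHom.id X.functionField) (RingHom.ext fun r => ?_) hβ
      show X.presheaf.stalkSpecializes (genericPoint_specializes z) (X.presheaf.germ _ z hz (f.app V r)) = _
      rw [TopCat.Presheaf.germ_stalkSpecializes_apply]
      exact (hamap r).symm
    exact IsIntegrallyClosed.algebraMap_eq_of_integral hint
  obtain ⟨s, hs⟩ := exists_section_of_mem_stalks hη β hst
  haveI := hf V
  obtain ⟨r, rfl⟩ := (ConcreteCategory.bijective_of_isIso (f.app V)).2 s
  have hβr : β ∈ φ₀.range := ⟨algebraMap Γ(Y, V) Y.functionField r, by rw [← hs]; exact hamap r⟩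
  obtain ⟨c, hc⟩ := hβr
  have hm0 : algebraMap Γ(Y, V) Y.functionField m ≠ 0 :=
    (IsLocalization.map_units Y.functionField m).ne_zero
  refine ⟨c / algebraMap Γ(Y, V) Y.functionField m, ?_⟩
  rw [map_div₀, hc]
  show algebraMap Γ(Y, V) X.functionField m * x / algebraMap Γ(Y, V) X.functionField m = x
  rw [mul_div_cancel_left₀]
  exact (map_ne_zero φ₀).2 hm0

/-- A fibration between proper integral schemes of equal dimension over a field is birational. -/
theorem bijective_stalkToFunctionField_of_isIso_app {k : Type u} [Field k] [IsIntegral X] [IsIntegral Y]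
    [X.IsSeparated] [Y.IsSeparated] (q : Y ⟶ Spec (CommRingCat.of k)) [LocallyOfFiniteType q] (f : X ⟶ Y)
    [IsProper f] [Surjective f] (hdim : topologicalKrullDim X = topologicalKrullDim Y)
    (hdom : f.base (genericPoint X) ⤳ genericPoint Y) (hf : ∀ U : Y.Opens, IsIso (f.app U)) :
    Function.Bijective (CohIII.stalkToFunctionField f (genericPoint Y) hdom) := by
  have hgen : f (genericPoint X) = genericPoint Y := (hdom.antisymm (genericPoint_specializes _)).eq
  obtain ⟨n, m, e, hn, hm, he, hnme⟩ := Dim.exists_dim_genericFibre f q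
  have he0 : e = 0 := by
    rw [hn, hm] at hdim
    have h' : n = m := by exact_mod_cast hdim
    omega
  subst he0
  rw [AffDom.topologicalKrullDim_fiber, ← Dim.topologicalKrullDim_univ] at he
  obtain ⟨z₀, hz₀⟩ := (f.range_fiberι (genericPoint Y)).ge (show genericPoint X ∈ f ⁻¹' {genericPoint Y} from hgen)
  have hirr : IsIrreducible (Set.univ : Set ↥(f.fiber (genericPoint Y))) := by
    have : closure {z₀} = Set.univ := Set.eq_univ_of_forall fun z => by
      rw [← specializes_iff_mem_closure, ← (f.fiberι _).isEmbedding.isInducing.specializes_iff, hz₀]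
      exact genericPoint_specializes _
    rw [← this]
    exact isIrreducible_singleton.closure
  have hsub := Dim.subsingleton_of_dim_eq_zero isClosed_univ hirr (by rw [he]; simp)
  obtain ⟨U, hU, hηU, -⟩ := exists_isAffineOpen_mem_and_subset (show genericPoint X ∈ (⊤ : X.Opens) from trivial)
  obtain ⟨W, hηW, hW⟩ := exists_open_avoid f (y := genericPoint Y) (B := (U : Set X)ᶜ) U.2.isClosed_compl
    fun x hx hxy => by
      obtain ⟨z, rfl⟩ := (f.range_fiberι (genericPoint Y)).ge (show x ∈ f ⁻¹' {genericPoint Y} from hxy)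
      rw [hsub (Set.mem_univ z) (Set.mem_univ z₀), hz₀] at hx
      exact hx hηU
  obtain ⟨V, hV, hηV, hVW⟩ := exists_isAffineOpen_mem_and_subset hηW
  have hle : f ⁻¹ᵁ V ≤ U := fun x hx => by_contra fun hxU => hW x hxU (hVW hx)
  have hfV : IsAffineOpen (f ⁻¹ᵁ V) := by
    haveI : IsAffine U.toScheme := hU
    haveI : IsAffineHom (U.ι ≫ f) := MorphismProperty.of_postcomp @IsAffineHom (W' := @IsSeparated) _ (terminal.from Y)
      inferInstance inferInstance
    have h1 : IsAffineOpen ((U.ι ≫ f) ⁻¹ᵁ V) := IsAffineHom.isAffine_preimage V hV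
    have h2 := h1.image_of_isOpenImmersion U.ι
    rw [Scheme.Hom.comp_preimage, Scheme.Hom.image_preimage_eq_opensRange_inf, Scheme.Opens.opensRange_ι,
      inf_eq_right.2 hle] at h2
    exact h2
  haveI : IsIso (f ∣_ V) := by
    haveI : IsAffine (V : Scheme.{u}) := hV
    haveI : IsAffine (f ⁻¹ᵁ V : X.Opens).toScheme := hfV
    haveI := hf (V.ι ''ᵁ ⊤)
    haveI : IsIso (f ∣_ V).appTop := by
      rw [morphismRestrict_appTop]
      exact IsIso.comp_isIso' (hf _) (Functor.map_isIso _ _)
    have h := Scheme.toSpecΓ_naturality (f ∣_ V)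
    have h2 : f ∣_ V = ((f ⁻¹ᵁ V : X.Opens).toScheme.toSpecΓ ≫ Spec.map (f ∣_ V).appTop) ≫ inv (V : Scheme.{u}).toSpecΓ := by
      rw [← h, Category.assoc, IsIso.hom_inv_id, Category.comp_id]
    rw [h2]; infer_instance
  have hη : genericPoint X ∈ f ⁻¹ᵁ V := genericPoint_mem_preimage f hdom hηV
  haveI : IsIso (f.stalkMap (genericPoint X)) :=
    ((MorphismProperty.isomorphisms CommRingCat).arrow_mk_iso_iff (morphismRestrictStalkMap f V ⟨_, hη⟩)).1
      (show IsIso ((f ∣_ V).stalkMap ⟨_, hη⟩) from inferInstance)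
  refine ⟨RingHom.injective _, fun a => ?_⟩
  obtain ⟨b, rfl⟩ := (ConcreteCategory.bijective_of_isIso (f.stalkMap (genericPoint X))).2 a
  refine ⟨Y.presheaf.stalkSpecializes (specializes_of_eq hgen.symm) b, ?_⟩
  show f.stalkMap (genericPoint X) (Y.presheaf.stalkSpecializes hdom
    (Y.presheaf.stalkSpecializes (specializes_of_eq hgen.symm) b)) = _
  rw [TopCat.Presheaf.stalkSpecializes_comp_apply]
  simp

end GrothLib.Stein
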