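import Groth.Agent.Lib.Stein.Main
import Groth.Agent.Lib.ProjCoh.Finite
import Groth.Agent.Lib.HomSh.Coherent
import Groth.Agent.Lib.BCCoh.RpushAffine
import Groth.Prelude.Def_ega3
import Mathlib.CategoryTheory.Sites.SheafCohomology.Basic

/-! # Direct image of the structure sheaf over a normal base -/

set_option autoImplicit false
set_option linter.style.haveILetI false
universe u

open CategoryTheory CategoryTheory.Limits AlgebraicGeometry Opposite TopologicalSpace

namespace GrothLib.Stein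

variable {X Y : Scheme.{u}}

/-- Global functions of a proper scheme over a Noetherian ring form a finite module. -/
theorem moduleFinite_global {A : Type u} [CommRing A] [IsNoetherianRing A] (q : X ⟶ Spec (CommRingCat.of A))
    [IsProper q] :
    ((q.appTop).hom.comp (Scheme.ΓSpecIso (CommRingCat.of A)).inv.hom).Finite := by
  letI : X.Over (Spec (CommRingCat.of A)) := ⟨q⟩
  haveI : IsProper (X ↘ Spec (CommRingCat.of A)) := ‹IsProper q›
  haveI : IsLocallyNoetherian X := LocallyOfFiniteType.isLocallyNoetherian q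
  letI : Algebra A Γ(X, ⊤) := (Coh.toGlobal q).toAlgebra
  suffices h : Module.Finite A Γ(X, ⊤) from h
  haveI := ProjCoh.moduleFinite_HH A (Coh.structureModule X) (HomSh.isCoh_structureModule X) 0
  let e₀ : Coh.HH X (Coh.structureModule X) 0 ≃+ Γ(X, ⊤) :=
    Sheaf.H.equiv₀ (Coh.toAb (Coh.structureModule X)) (T := (⊤ : X.Opens)) isTerminalTop
  refine Module.Finite.equiv (e₀.toLinearEquiv fun a x => ?_)
  let r := Coh.toGlobal q a
  refine ((Sheaf.H.equiv₀_naturality isTerminalTop (Coh.smulAb (Coh.structureModule X) r) x).symm.trans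
    ((Coh.smulAb_app _ _ (op ⊤) _).trans ?_))
  have e2 : Coh.resTop X (op ⊤) r = r := by
    show (X.ringCatSheaf.obj.map (𝟙 _)).hom _ = _
    rw [CategoryTheory.Functor.map_id]; rfl
  rw [e2]
  rfl

/-- Functions on the preimage of an affine open form a finite module for a proper morphism. -/
theorem finite_app (f : X ⟶ Y) [IsProper f] [IsLocallyNoetherian Y] {W : Y.Opens} (hW : IsAffineOpen W) :
    (f.app W).hom.Finite := by
  haveI : IsNoetherianRing Γ(Y, W) := IsLocallyNoetherian.component_noetherian ⟨W, hW⟩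
  let g := BCCoh.affBase f hW
  haveI : IsProper g := inferInstanceAs (IsProper (f ∣_ W ≫ hW.isoSpec.hom))
  have h := moduleFinite_global g
  have e : (f.app W).hom = (f ⁻¹ᵁ W).topIso.hom.hom.comp
      ((g.appTop).hom.comp (Scheme.ΓSpecIso (CommRingCat.of Γ(Y, W))).inv.hom) := by
    apply RingHom.ext
    intro a
    show f.app W a = (f ⁻¹ᵁ W).topIso.hom ((f ∣_ W ≫ hW.isoSpec.hom).appTop
      ((Scheme.ΓSpecIso Γ(Y, W)).inv a))
    rw [← CommRingCat.comp_apply, ← CommRingCat.comp_apply]
    congr 2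
    rw [Scheme.Hom.comp_appTop, IsAffineOpen.isoSpec_hom, Scheme.Opens.toSpecΓ_appTop]
    simp [Scheme.Hom.app_eq_appLE]
    erw [Scheme.Hom.appLE_map, Scheme.Hom.map_appLE]
  rw [e]
  exact (RingHom.Finite.of_surjective _ (ConcreteCategory.bijective_of_isIso (f ⁻¹ᵁ W).topIso.hom).2).comp h

section Dominant

variable [IsIntegral X] [IsIntegral Y] (f : X ⟶ Y) (hdom : f.base (genericPoint X) ⤳ genericPoint Y)

theorem genericPoint_mem {V : Y.Opens} {y : Y} (hy : y ∈ V) : genericPoint Y ∈ V :=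
  (genericPoint_specializes y).mem_open V.2 hy

include hdom in
theorem genericPoint_mem_preimage {V : Y.Opens} {y : Y} (hy : y ∈ V) : genericPoint X ∈ f ⁻¹ᵁ V :=
  (hdom.trans (genericPoint_specializes y)).mem_open V.2 hy

/-- Germs at the generic points. -/
theorem germ_app {V : Y.Opens} {y : Y} (hy : y ∈ V) (r : Γ(Y, V)) :
    X.presheaf.germ (f ⁻¹ᵁ V) (genericPoint X) (genericPoint_mem_preimage f hdom hy) (f.app V r) =
      CohIII.stalkToFunctionField f (genericPoint Y) hdom
        (Y.presheaf.stalkSpecializes (genericPoint_specializes y) (Y.presheaf.germ V y hy r)) := by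
  rw [TopCat.Presheaf.germ_stalkSpecializes_apply]
  show _ = f.stalkMap (genericPoint X) (Y.presheaf.stalkSpecializes hdom
    (Y.presheaf.germ V (genericPoint Y) (genericPoint_mem hy) r))
  rw [TopCat.Presheaf.germ_stalkSpecializes_apply, Scheme.Hom.germ_stalkMap_apply]

/-- The values in the function field of `X` of the local ring at `y`. -/
noncomputable def stalkImage (y : Y) : Subring X.functionField :=
  ((CohIII.stalkToFunctionField f (genericPoint Y) hdom).comp
    (Y.presheaf.stalkSpecializes (genericPoint_specializes y)).hom).range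

include hdom in
theorem injective_app (V : Y.Opens) : Function.Injective (f.app V) := by
  rcases (V : Set Y).eq_empty_or_nonempty with he | ⟨y, hy⟩
  · obtain rfl : V = ⊥ := SetLike.coe_injective he
    intro a b _; exact Subsingleton.elim _ _
  intro a b hab
  refine germ_injective_of_isIntegral Y (genericPoint Y) (genericPoint_mem hy) ?_
  refine (CohIII.stalkToFunctionField f (genericPoint Y) hdom).injective ?_
  have h1 := germ_app f hdom hy a
  rw [hab, germ_app f hdom hy b, TopCat.Presheaf.germ_stalkSpecializes_apply,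
    TopCat.Presheaf.germ_stalkSpecializes_apply] at h1
  exact h1.symm

include hdom in
/-- Sections whose values lie in all local rings of the base come from the base. -/
theorem exists_preimage {V : Y.Opens} (b : Γ(X, f ⁻¹ᵁ V))
    (hb : ∀ y (hy : y ∈ V), X.presheaf.germ (f ⁻¹ᵁ V) (genericPoint X) (genericPoint_mem_preimage f hdom hy) b ∈
      stalkImage f hdom y) : ∃ r, f.app V r = b := by
  rcases (V : Set Y).eq_empty_or_nonempty with he | ⟨y₀, hy₀⟩
  · obtain rfl : V = ⊥ := SetLike.coe_injective he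
    refine ⟨0, ?_⟩
    haveI : Subsingleton Γ(X, f ⁻¹ᵁ ⊥) := by rw [Scheme.Hom.preimage_bot]; infer_instance
    exact Subsingleton.elim _ _
  have hloc : ∀ y (hy : y ∈ V), ∃ (W : Y.Opens) (hyW : y ∈ W) (hWV : W ≤ V) (r : Γ(Y, W)),
      CohIII.stalkToFunctionField f (genericPoint Y) hdom (Y.presheaf.germ W (genericPoint Y) (genericPoint_mem hyW) r) =
        X.presheaf.germ (f ⁻¹ᵁ V) (genericPoint X) (genericPoint_mem_preimage f hdom hy) b := by
    intro y hy
    obtain ⟨c, hc⟩ := hb y hy
    obtain ⟨W₀, hyW₀, r, rfl⟩ := Y.presheaf.exists_germ_eq c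
    refine ⟨W₀ ⊓ V, ⟨hyW₀, hy⟩, inf_le_right, Y.presheaf.map (homOfLE inf_le_left).op r, ?_⟩
    rw [TopCat.Presheaf.germ_res_apply, ← hc]
    show _ = CohIII.stalkToFunctionField f (genericPoint Y) hdom
      (Y.presheaf.stalkSpecializes (genericPoint_specializes y) (Y.presheaf.germ W₀ y hyW₀ r))
    rw [TopCat.Presheaf.germ_stalkSpecializes_apply]
  choose W hyW hWV r hr using hloc
  have hcov : V ≤ ⨆ p : V, W p.1 p.2 := fun y hy => Opens.mem_iSup.2 ⟨⟨y, hy⟩, hyW y hy⟩
  have hinj := (CohIII.stalkToFunctionField f (genericPoint Y) hdom).injective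
  obtain ⟨s, hs, -⟩ := Y.sheaf.existsUnique_gluing' (fun p : V => W p.1 p.2) V
    (fun p => homOfLE (hWV p.1 p.2)) hcov (fun p => r p.1 p.2) (by
      intro p q
      rcases ((W p.1 p.2 ⊓ W q.1 q.2 : Y.Opens) : Set Y).eq_empty_or_nonempty with he | ⟨z, hz⟩
      · have he' : W p.1 p.2 ⊓ W q.1 q.2 = ⊥ := SetLike.coe_injective he
        haveI hsub : Subsingleton Γ(Y, W p.1 p.2 ⊓ W q.1 q.2) := by rw [he']; infer_instance
        exact hsub.elim _ _
      refine germ_injective_of_isIntegral Y (genericPoint Y) (genericPoint_mem hz) ?_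
      refine (TopCat.Presheaf.germ_res_apply _ _ _ _ _).trans
        (Eq.trans ?_ (TopCat.Presheaf.germ_res_apply _ _ _ _ _).symm)
      exact hinj ((hr p.1 p.2).trans (hr q.1 q.2).symm))
  refine ⟨s, germ_injective_of_isIntegral X (genericPoint X) (genericPoint_mem_preimage f hdom hy₀) ?_⟩
  refine (germ_app f hdom hy₀ s).trans ?_
  rw [TopCat.Presheaf.germ_stalkSpecializes_apply, ← hr y₀ hy₀, ← hs ⟨y₀, hy₀⟩]
  exact congrArg _ (TopCat.Presheaf.germ_res_apply _ _ _ _ _).symm

include hdom in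
theorem isIso_app_of_stalkImage {V : Y.Opens}
    (h : ∀ y ∈ V, ∀ (b : Γ(X, f ⁻¹ᵁ V)) (hη : genericPoint X ∈ f ⁻¹ᵁ V),
      X.presheaf.germ (f ⁻¹ᵁ V) (genericPoint X) hη b ∈ stalkImage f hdom y) : IsIso (f.app V) :=
  (ConcreteCategory.isIso_iff_bijective _).2
    ⟨injective_app f hdom V, fun b => exists_preimage f hdom b fun y hy => h y hy b _⟩

include hdom in
/-- Values of sections lie in the local ring at a normal point, `R(Y)` being algebraically closed in `R(X)`. -/
theorem germ_mem_stalkImage [UniversallyClosed f]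
    (halg : ∀ x : X.functionField,
      (∃ q : Polynomial Y.functionField, q ≠ 0 ∧
        Polynomial.eval₂ (CohIII.stalkToFunctionField f (genericPoint Y) hdom) x q = 0) →
      x ∈ Set.range (CohIII.stalkToFunctionField f (genericPoint Y) hdom))
    {y : Y} (hn : IsIntegrallyClosed (Y.presheaf.stalk y)) {V : Y.Opens} (hy : y ∈ V) (b : Γ(X, f ⁻¹ᵁ V))
    (hη : genericPoint X ∈ f ⁻¹ᵁ V) :
    X.presheaf.germ (f ⁻¹ᵁ V) (genericPoint X) hη b ∈ stalkImage f hdom y := by
  obtain ⟨W, hW, hyW, hWV⟩ := exists_isAffineOpen_mem_and_subset hy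
  have hWV' : W ≤ V := hWV
  have hηW := genericPoint_mem_preimage f hdom hyW
  let b' : Γ(X, f ⁻¹ᵁ W) := X.presheaf.map (homOfLE (f.preimage_mono hWV')).op b
  have hb' : X.presheaf.germ (f ⁻¹ᵁ W) (genericPoint X) hηW b' =
      X.presheaf.germ (f ⁻¹ᵁ V) (genericPoint X) hη b := TopCat.Presheaf.germ_res_apply _ _ _ _ _
  rw [← hb']
  let φ₀ := CohIII.stalkToFunctionField f (genericPoint Y) hdom
  let β := X.presheaf.germ (f ⁻¹ᵁ W) (genericPoint X) hηW b'
  letI := φ₀.toAlgebra
  letI : Algebra (Y.presheaf.stalk y) X.functionField :=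
    (φ₀.comp (Y.presheaf.stalkSpecializes (genericPoint_specializes y)).hom).toAlgebra
  haveI : IsScalarTower (Y.presheaf.stalk y) Y.functionField X.functionField :=
    IsScalarTower.of_algebraMap_eq fun _ => rfl
  have hint : IsIntegral (Y.presheaf.stalk y) β := by
    letI := (f.app W).hom.toAlgebra
    refine IsIntegral.map_of_comp_eq (Y.presheaf.germ W y hyW).hom
      (X.presheaf.germ (f ⁻¹ᵁ W) (genericPoint X) hηW).hom (RingHom.ext fun r => ?_)
      (isIntegral_section_preimage f hW b')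
    exact (germ_app f hdom hyW r).symm
  have hK : IsIntegral Y.functionField β := hint.tower_top
  obtain ⟨q, hq, hqβ⟩ := hK
  obtain ⟨c, hc⟩ := halg β ⟨q, hq.ne_zero, hqβ⟩
  have hcint : IsIntegral (Y.presheaf.stalk y) c :=
    (isIntegral_algHom_iff (IsScalarTower.toAlgHom (Y.presheaf.stalk y) Y.functionField X.functionField)
      φ₀.injective).1 (show IsIntegral _ (φ₀ c) from hc ▸ hint)
  obtain ⟨r, hr⟩ := IsIntegrallyClosed.algebraMap_eq_of_integral hcint
  exact ⟨r, (congrArg φ₀ hr).trans hc⟩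

include hdom in
theorem isIso_app_of_normal [UniversallyClosed f] (hY : ∀ y : Y, IsIntegrallyClosed (Y.presheaf.stalk y))
    (halg : ∀ x : X.functionField,
      (∃ q : Polynomial Y.functionField, q ≠ 0 ∧
        Polynomial.eval₂ (CohIII.stalkToFunctionField f (genericPoint Y) hdom) x q = 0) →
      x ∈ Set.range (CohIII.stalkToFunctionField f (genericPoint Y) hdom)) (V : Y.Opens) : IsIso (f.app V) :=
  isIso_app_of_stalkImage f hdom fun y hy b hη => germ_mem_stalkImage f hdom halg (hY y) hy b hη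

include hdom in
/-- Direct image of the structure sheaf near a normal point. -/
theorem exists_isIso_app_near [IsProper f] [IsLocallyNoetherian Y]
    (halg : ∀ x : X.functionField,
      (∃ q : Polynomial Y.functionField, q ≠ 0 ∧
        Polynomial.eval₂ (CohIII.stalkToFunctionField f (genericPoint Y) hdom) x q = 0) →
      x ∈ Set.range (CohIII.stalkToFunctionField f (genericPoint Y) hdom))
    {y : Y} (hn : IsIntegrallyClosed (Y.presheaf.stalk y)) :
    ∃ U : Y.Opens, y ∈ U ∧ ∀ V : Y.Opens, V ≤ U → IsIso (f.app V) := by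
  classical
  obtain ⟨W, hW, hyW, -⟩ := exists_isAffineOpen_mem_and_subset (show y ∈ (⊤ : Y.Opens) from trivial)
  have hηW := genericPoint_mem_preimage f hdom hyW
  letI := (f.app W).hom.toAlgebra
  haveI : Module.Finite Γ(Y, W) Γ(X, f ⁻¹ᵁ W) := finite_app f hW
  obtain ⟨G, hG⟩ := Module.Finite.fg_top (R := Γ(Y, W)) (M := Γ(X, f ⁻¹ᵁ W))
  have hgen : ∀ g ∈ G, ∃ (U : Y.Opens), y ∈ U ∧ ∀ y' ∈ U,
      X.presheaf.germ (f ⁻¹ᵁ W) (genericPoint X) hηW g ∈ stalkImage f hdom y' := by
    intro g _
    obtain ⟨c, hc⟩ := germ_mem_stalkImage f hdom halg hn hyW g hηW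
    obtain ⟨U, hyU, r, rfl⟩ := Y.presheaf.exists_germ_eq c
    refine ⟨U, hyU, fun y' hy' => ⟨Y.presheaf.germ U y' hy' r, ?_⟩⟩
    rw [← hc]
    show CohIII.stalkToFunctionField f (genericPoint Y) hdom _ = CohIII.stalkToFunctionField f (genericPoint Y) hdom _
    rw [TopCat.Presheaf.germ_stalkSpecializes_apply, TopCat.Presheaf.germ_stalkSpecializes_apply]
  choose U hyU hU using hgen
  let U₀ : Y.Opens := W ⊓ ⟨⋂ g : G, (U g.1 g.2 : Set Y), isOpen_iInter_of_finite fun g : G => (U g.1 g.2).2⟩
  refine ⟨U₀, ⟨hyW, Set.mem_iInter.2 fun g : G => hyU g.1 g.2⟩, fun V hV => ?_⟩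
  refine isIso_app_of_stalkImage f hdom fun y' hy' b hη => ?_
  have hy'W : y' ∈ W := (hV hy').1
  have hall : ∀ a : Γ(X, f ⁻¹ᵁ W), X.presheaf.germ (f ⁻¹ᵁ W) (genericPoint X) hηW a ∈ stalkImage f hdom y' := by
    intro a
    induction (hG.ge (Submodule.mem_top : a ∈ ⊤) : a ∈ Submodule.span Γ(Y, W) (G : Set Γ(X, f ⁻¹ᵁ W)))
      using Submodule.span_induction with
    | mem g hg => exact hU g hg y' (Set.mem_iInter.1 (hV hy').2 ⟨g, hg⟩)
    | zero => rw [map_zero]; exact zero_mem _
    | add a a' _ _ ha ha' => rw [map_add]; exact add_mem ha ha'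
    | smul r a _ ha =>
      rw [Algebra.smul_def, map_mul]
      refine mul_mem ⟨Y.presheaf.germ W y' hy'W r, ?_⟩ ha
      exact (germ_app f hdom hy'W r).symm
  obtain ⟨t, hDV, hy't⟩ := hW.exists_basicOpen_le (⟨y', hy'⟩ : V) hy'W
  have hcpt := f.isCompact_preimage hW.isCompact
  haveI := isLocalization_basicOpen_of_qcqs hcpt (f.isQuasiSeparated_preimage hW.isQuasiSeparated) (f.app W t)
  have hle : X.basicOpen (f.app W t) ≤ f ⁻¹ᵁ V := by
    rw [← Scheme.preimage_basicOpen]; exact f.preimage_mono hDV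
  have hηD : genericPoint X ∈ X.basicOpen (f.app W t) := by
    rw [← Scheme.preimage_basicOpen]; exact genericPoint_mem_preimage f hdom hy't
  obtain ⟨n, a, hna⟩ := IsLocalization.Away.surj (f.app W t) (X.presheaf.map (homOfLE hle).op b)
  have key : X.presheaf.germ (f ⁻¹ᵁ V) (genericPoint X) hη b *
      X.presheaf.germ (f ⁻¹ᵁ W) (genericPoint X) hηW (f.app W t) ^ n =
      X.presheaf.germ (f ⁻¹ᵁ W) (genericPoint X) hηW a := by
    have h := congrArg (X.presheaf.germ (X.basicOpen (f.app W t)) (genericPoint X) hηD) hna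
    rw [map_mul, map_pow, TopCat.Presheaf.germ_res_apply] at h
    simp only [RingHom.algebraMap_toAlgebra] at h
    erw [TopCat.Presheaf.germ_res_apply, TopCat.Presheaf.germ_res_apply] at h
    exact h
  obtain ⟨ca, hca⟩ := hall a
  have hu : IsUnit (Y.presheaf.germ W y' hy'W t) := (Y.mem_basicOpen t y' hy'W).1 hy't
  obtain ⟨v, hv⟩ := hu
  refine ⟨ca * ((v⁻¹ : (Y.presheaf.stalk y')ˣ) : Y.presheaf.stalk y') ^ n, ?_⟩
  let ψ := (CohIII.stalkToFunctionField f (genericPoint Y) hdom).comp
    (Y.presheaf.stalkSpecializes (genericPoint_specializes y')).hom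
  show ψ _ = _
  rw [map_mul, map_pow, show ψ ca = _ from hca, ← key, mul_assoc, ← mul_pow,
    show X.presheaf.germ (f ⁻¹ᵁ W) (genericPoint X) hηW (f.app W t) = ψ v from by
      rw [hv]; exact germ_app f hdom hy'W t,
    ← map_mul, Units.mul_inv, map_one, one_pow, mul_one]

end Dominant

end GrothLib.Stein
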