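import Groth.Agent.Lib.BaseChange.Finite
import Groth.Agent.Lib.BaseChange.Irred
import Mathlib.FieldTheory.SeparableClosure

/-! # Geometric connectedness is detected at finite separable levels -/

set_option autoImplicit false
set_option linter.style.haveILetI false
universe u

open CategoryTheory CategoryTheory.Limits AlgebraicGeometry TopologicalSpace

namespace GrothLib.Stein

open GrothLib.BaseChange

variable (k : Type u) [Field k] (X : Scheme.{u}) [X.Over (Spec (CommRingCat.of k))]

theorem isClosedMap_bcMap (L : Type u) [Field L] [Algebra k L] [Algebra.IsAlgebraic k L]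
    (E : IntermediateField k L) : IsClosedMap (bcMap k X E L).base := by
  haveI : Algebra.IsAlgebraic E L := Algebra.IsAlgebraic.tower_top (K := k) E
  haveI : IsIntegralHom (Spec.map (CommRingCat.ofHom (algebraMap E L))) := by
    rw [IsIntegralHom.SpecMap_iff]
    exact algebraMap_isIntegral_iff.2 (Algebra.IsAlgebraic.isIntegral (K := E) (A := L))
  haveI : IsIntegralHom (bcMap k X E L) := property_bcMap k X E L inferInstance
  exact (bcMap k X E L).isClosedMap

theorem bcMap_eq_of_le (L : Type u) [Field L] [Algebra k L] {E F : IntermediateField k L} (hEF : E ≤ F)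
    {a b : Curv2.bc k X L} (h : bcMap k X F L a = bcMap k X F L b) : bcMap k X E L a = bcMap k X E L b := by
  letI : Algebra E F := (IntermediateField.inclusion hEF).toAlgebra
  haveI : IsScalarTower k E F := IsScalarTower.of_algebraMap_eq fun _ => rfl
  haveI : IsScalarTower E F L := IsScalarTower.of_algebraMap_eq fun _ => rfl
  have e : bcMap k X F L ≫ bcMap k X E F = bcMap k X E L := by
    apply pullback.hom_ext
    · rw [Category.assoc, bcMap_fst, bcMap_fst, bcMap_fst]
    · rw [Category.assoc, bcMap_snd, bcMap_snd, bcMap_snd_assoc, ← Spec.map_comp, ← CommRingCat.ofHom_comp,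
        ← IsScalarTower.algebraMap_eq]
  rw [← e, Scheme.Hom.comp_apply, Scheme.Hom.comp_apply, h]

/-- **Finite separable levels detect geometric connectedness.** -/
theorem geometricallyConnected_of_finite_levels [CompactSpace X]
    (h : ∀ E : IntermediateField k (SeparableClosure k), FiniteDimensional k E →
      ConnectedSpace (Curv2.bc k X E)) :
    GeometricallyConnected (X ↘ Spec (CommRingCat.of k)) := by
  classical
  let Ω := SeparableClosure k
  let Z := Curv2.bc k X Ω
  haveI : CompactSpace Z := QuasiCompact.compactSpace_of_compactSpace (Curv2.bcFst k X Ω)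
  let Fin' := {E : IntermediateField k Ω // FiniteDimensional k E}
  let π : ∀ E : Fin', Z ⟶ Curv2.bc k X E.1 := fun E => bcMap k X E.1 Ω
  haveI : Nonempty Fin' := ⟨⟨⊥, inferInstance⟩⟩
  let sup : Fin' → Fin' → Fin' := fun E F => ⟨E.1 ⊔ F.1, by
    haveI := E.2; haveI := F.2; infer_instance⟩
  have hle : ∀ {E F : Fin'}, E.1 ≤ F.1 → ∀ {a b : Z}, π F a = π F b → π E a = π E b :=
    fun hEF _ _ hab => bcMap_eq_of_le k X Ω hEF hab
  have hsurj : ∀ E : Fin', Function.Surjective (π E).base := fun E => (bcMap k X E.1 Ω).surjective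
  have hclosed : ∀ E : Fin', IsClosedMap (π E).base := fun E => isClosedMap_bcMap k X Ω E.1
  have key : ∀ S : Set Z, IsClopen S → ∀ z ∈ S, IsClosed ({z} : Set Z) →
      (∀ E : Fin', π E z ∈ (π E).base '' Sᶜ) → False := by
    intro S hS z hzS hz hall
    let D : Fin' → Set Z := fun E => Sᶜ ∩ (π E).base ⁻¹' {π E z}
    have hDc : ∀ E, IsClosed (D E) := fun E => hS.2.isClosed_compl.inter <| by
      refine IsClosed.preimage (π E).continuous ?_
      rw [← Set.image_singleton]
      exact hclosed E _ hz
    obtain ⟨t, ht⟩ := IsCompact.nonempty_iInter_of_directed_nonempty_isCompact_isClosed D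
      (fun E F => ⟨sup E F, fun a ha => ⟨ha.1, hle (E := E) (F := sup E F) le_sup_left ha.2⟩,
        fun a ha => ⟨ha.1, hle (E := F) (F := sup E F) le_sup_right ha.2⟩⟩)
      (fun E => by obtain ⟨t, ht, hte⟩ := hall E; exact ⟨t, ht, hte⟩) (fun E => (hDc E).isCompact) hDc
    rw [Set.mem_iInter] at ht
    have he : t = z := by
      refine eq_of_bcMap_eq k X Ω t z ?_ fun E hE => (ht ⟨E, hE⟩).2
      rw [← bcMap_fst k X (⊥ : IntermediateField k Ω) Ω, Scheme.Hom.comp_apply, Scheme.Hom.comp_apply]
      exact congrArg _ (ht ⟨⊥, inferInstance⟩).2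
    exact (ht ⟨⊥, inferInstance⟩).1 (he ▸ hzS)
  have hpre : PreconnectedSpace Z := by
    refine preconnectedSpace_iff_clopen.2 fun S hS => ?_
    by_contra hne
    obtain ⟨hne₁, hne₂⟩ := not_or.1 hne
    let C : Fin' → Set Z := fun E => (π E).base ⁻¹' ((π E).base '' S ∩ (π E).base '' Sᶜ)
    have hCc : ∀ E, IsClosed (C E) := fun E =>
      ((hclosed E _ hS.1).inter (hclosed E _ hS.2.isClosed_compl)).preimage (π E).continuous
    have hCne : ∀ E, (C E).Nonempty := fun E => by
      haveI := h E.1 E.2
      obtain ⟨w, -, hw⟩ := isPreconnected_closed_iff.1 isPreconnected_univ _ _ (hclosed E _ hS.1)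
        (hclosed E _ hS.2.isClosed_compl)
        (fun w _ => by
          obtain ⟨a, rfl⟩ := hsurj E w
          by_cases ha : a ∈ S
          · exact Or.inl ⟨a, ha, rfl⟩
          · exact Or.inr ⟨a, ha, rfl⟩)
        (by rw [Set.univ_inter]; exact (Set.nonempty_iff_ne_empty.2 hne₁).image _)
        (by rw [Set.univ_inter]; exact (Set.nonempty_compl.2 hne₂).image _)
      obtain ⟨a, rfl⟩ := hsurj E w
      exact ⟨a, hw⟩
    have hmono : ∀ {E F : Fin'}, E.1 ≤ F.1 → C F ⊆ C E := fun {E F} hEF a ⟨⟨s, hs, hsa⟩, t, ht, hta⟩ =>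
      ⟨⟨s, hs, hle hEF hsa⟩, t, ht, hle hEF hta⟩
    have hC : (⋂ E, C E).Nonempty := IsCompact.nonempty_iInter_of_directed_nonempty_isCompact_isClosed C
      (fun E F => ⟨sup E F, hmono (E := E) (F := sup E F) le_sup_left,
        hmono (E := F) (F := sup E F) le_sup_right⟩) hCne (fun E => (hCc E).isCompact) hCc
    obtain ⟨z, hzC, hz⟩ := IsClosed.exists_closed_singleton (isClosed_iInter hCc) hC
    rw [Set.mem_iInter] at hzC
    by_cases hzS : z ∈ S
    · exact key S hS z hzS hz fun E => (hzC E).2
    · exact key Sᶜ hS.compl z hzS hz fun E => by rw [compl_compl]; exact (hzC E).1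
  haveI : Nonempty Z := by
    haveI := h ⊥ inferInstance
    obtain ⟨w⟩ := (inferInstance : Nonempty (Curv2.bc k X (⊥ : IntermediateField k Ω)))
    obtain ⟨z, -⟩ := hsurj ⟨⊥, inferInstance⟩ w
    exact ⟨z⟩
  haveI : ConnectedSpace Z := { toNonempty := inferInstance }
  exact geometricallyConnected_of_connected_bc k X Ω

end GrothLib.Stein
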