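import Groth.Agent.Lib.Stein.General
import Groth.Agent.Lib.Frob.Basic
import Groth.Agent.S9633
import Mathlib.AlgebraicGeometry.Morphisms.Integral

/-!
# Universal homeomorphisms from connected fibres
-/

set_option autoImplicit false
set_option backward.isDefEq.respectTransparency false
set_option linter.style.haveILetI false
universe u

open CategoryTheory CategoryTheory.Limits AlgebraicGeometry TopologicalSpace

namespace GrothLib.Stein

/-- A connected scheme integral over a field has one point. -/
theorem subsingleton_of_isIntegralHom_of_preconnected {P : Scheme.{u}} {K : Type u} [Field K]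
    (ν : P ⟶ Spec (CommRingCat.of K)) [IsIntegralHom ν] [PreconnectedSpace P] : Subsingleton P := by
  haveI : IsAffine P := isAffine_of_isAffineHom ν
  let B := Γ(P, ⊤)
  let φ : K →+* B := ν.appTop.hom.comp (Scheme.ΓSpecIso (CommRingCat.of K)).inv.hom
  have hφ : φ.IsIntegral := RingHom.IsIntegral.trans _ _
    (RingHom.isIntegral_of_surjective _ (ConcreteCategory.bijective_of_isIso (Scheme.ΓSpecIso (CommRingCat.of K)).inv).2)
    (IsIntegralHom.isIntegral_app ν ⊤ (isAffineOpen_top _))
  letI : Algebra K B := φ.toAlgebra
  haveI : Algebra.IsIntegral K B := ⟨hφ⟩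
  have hmax : ∀ p : PrimeSpectrum B, p.asIdeal.IsMaximal := fun p => by
    have : (p.asIdeal.comap (algebraMap K B)).IsMaximal := by
      rcases Ideal.eq_bot_or_top (p.asIdeal.comap (algebraMap K B)) with h | h
      · rw [h]; exact Ideal.bot_isMaximal
      · exact absurd h (Ideal.IsPrime.ne_top inferInstance)
    exact Ideal.isMaximal_of_isIntegral_of_isMaximal_comap p.asIdeal this
  have hclosed : ∀ f : B, IsClosed (PrimeSpectrum.basicOpen f : Set (PrimeSpectrum B)) :=
    ((Groth.Agent.S9633.result (R := B)).out 5 7).1 fun I hI => hmax ⟨I, hI⟩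
  haveI : PreconnectedSpace (Spec B) :=
    (P.isoSpec.hom.homeomorph).surjective.denseRange.preconnectedSpace P.isoSpec.hom.continuous
  suffices h : Subsingleton (PrimeSpectrum B) from
    @Function.Injective.subsingleton _ _ _ P.isoSpec.hom.homeomorph.injective h
  refine ⟨fun p q => ?_⟩
  by_contra hne
  obtain ⟨a, hap, haq⟩ := SetLike.not_le_iff_exists.1
    (fun h => hne (PrimeSpectrum.ext ((hmax p).eq_of_le (hmax q).ne_top h)))
  have hcl : IsClopen (PrimeSpectrum.basicOpen a : Set (PrimeSpectrum B)) :=
    ⟨hclosed a, (PrimeSpectrum.basicOpen a).isOpen⟩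
  rcases isClopen_iff.1 (show IsClopen (X := Spec B) (PrimeSpectrum.basicOpen a : Set (PrimeSpectrum B)) from hcl) with h | h
  · exact (Set.eq_empty_iff_forall_notMem.1 h q) haq
  · exact (h.symm.subset (Set.mem_univ p)) hap

variable {X N S : Scheme.{u}}

/-- The integral part of a morphism with geometrically connected fibres is a universal homeomorphism. -/
theorem isUnivHomeo_of_geometricallyConnected (a : X ⟶ N) (b : N ⟶ S) [Surjective a] [IsIntegralHom b]
    (h : GeometricallyConnected (a ≫ b)) : FlatMor.IsUnivHomeo b := by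
  haveI := h
  haveI : Surjective b := Surjective.of_comp a b
  have hfib : ∀ (K : Type u) [Field K] (y : Spec (CommRingCat.of K) ⟶ S), Subsingleton ↥(pullback b y) := by
    intro K _ y
    haveI : ConnectedSpace ↥(pullback (a ≫ b) y) :=
      GeometricallyConnected.geometrically_connectedSpace _ _ _ (.of_hasPullback _ _)
    let m := pullback.fst a (pullback.fst b y)
    haveI : Surjective (pullback.snd a (pullback.fst b y)) := MorphismProperty.pullback_snd _ _ inferInstance
    haveI : ConnectedSpace ↥(pullback a (pullback.fst b y)) :=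
      (pullbackRightPullbackFstIso b y a).inv.homeomorph.surjective.connectedSpace
        (pullbackRightPullbackFstIso b y a).inv.continuous
    haveI : ConnectedSpace ↥(pullback b y) :=
      (pullback.snd a (pullback.fst b y)).surjective.connectedSpace (pullback.snd a (pullback.fst b y)).continuous
    haveI : IsIntegralHom (pullback.snd b y) := MorphismProperty.pullback_snd _ _ inferInstance
    exact subsingleton_of_isIntegralHom_of_preconnected (pullback.snd b y)
  haveI : UniversallyInjective b := by
    refine ⟨fun T' S' i₁ i₂ f' hsq z₁ z₂ hz => ?_⟩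
    let s := f' z₁
    let y : Spec (CommRingCat.of (S'.residueField s)) ⟶ S := S'.fromSpecResidueField s ≫ i₂
    obtain ⟨x₁, hx₁⟩ := (f'.range_fiberι s).ge (show z₁ ∈ f' ⁻¹' {s} from rfl)
    obtain ⟨x₂, hx₂⟩ := (f'.range_fiberι s).ge (show z₂ ∈ f' ⁻¹' {s} from hz.symm)
    have hpb := (IsPullback.of_hasPullback f' (S'.fromSpecResidueField s)).paste_horiz hsq.flip
    have hs : Subsingleton ↥(f'.fiber s) :=
      haveI := hfib _ y
      hpb.isoPullback.hom.homeomorph.injective.subsingleton
    rw [← hx₁, ← hx₂, hs.elim x₁ x₂]
  exact (GrothLib.Frob.isUnivHomeo_iff b).2 ⟨inferInstance, inferInstance, inferInstance⟩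

end GrothLib.Stein
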