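import Groth.Agent.Lib.Stein.Finite
import Groth.Agent.Lib.Stein.UnivHomeo
import Mathlib.FieldTheory.PurelyInseparable.Basic
import Mathlib.AlgebraicGeometry.Morphisms.UniversallyInjective

/-!
# Geometric connectedness of proper schemes over a field
-/

set_option autoImplicit false
set_option backward.isDefEq.respectTransparency false
set_option linter.style.haveILetI false

universe u

open CategoryTheory CategoryTheory.Limits AlgebraicGeometry TopologicalSpace

namespace GrothLib.Stein

variable {X N S : Scheme.{u}}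

theorem geometricallyConnected_comp_univHomeo (a : X ⟶ N) (b : N ⟶ S) [IsProper a]
    [GeometricallyConnected a] (hb : FlatMor.IsUnivHomeo b) : GeometricallyConnected (a ≫ b) := by
  refine ⟨geometrically_iff_of_isClosedUnderIsomorphisms.mpr fun K _ y => ?_⟩
  have hh : IsHomeomorph (pullback.snd b y) := hb _ _ _ (IsPullback.of_hasPullback b y).flip
  haveI : ConnectedSpace ↥(pullback b y) := hh.homeomorph.symm.surjective.connectedSpace hh.homeomorph.symm.continuous
  haveI : Subsingleton ↥(pullback b y) := hh.injective.subsingleton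
  let q := pullback.snd a (pullback.fst b y)
  haveI : IsProper q := MorphismProperty.pullback_snd _ _ inferInstance
  haveI : GeometricallyConnected q := MorphismProperty.pullback_snd _ _ inferInstance
  haveI : ConnectedSpace ↥(pullback a (pullback.fst b y)) := GeometricallyConnected.connectedSpace_of_subsingleton q
  exact (pullbackRightPullbackFstIso b y a).hom.homeomorph.surjective.connectedSpace
    (pullbackRightPullbackFstIso b y a).hom.continuous

theorem geometricallyConnected_toSpecΓ (X : Scheme.{u}) [IsProper X.toSpecΓ] :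
    GeometricallyConnected X.toSpecΓ :=
  geometricallyConnected_of_bijective_app X.toSpecΓ (bijective_app_of_basicOpen X.toSpecΓ fun _ =>
    ⟨⊤, isAffineOpen_top _, trivial, by
      haveI : CompactSpace X := QuasiCompact.compactSpace_of_compactSpace X.toSpecΓ
      haveI : IsIso (X.toSpecΓ.app ⊤) := by
        show IsIso X.toSpecΓ.appTop
        rw [Scheme.toSpecΓ_appTop]
        infer_instance
      exact ConcreteCategory.bijective_of_isIso _⟩)

variable {k : Type u} [Field k] {R : CommRingCat.{u}} (φ : CommRingCat.of k ⟶ R)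

theorem universallyInjective_of_pow_sub (h : ∀ a : R, ∃ (n : ℕ) (c : k), IsNilpotent (a ^ (ringExpChar k ^ n) - φ c)) :
    UniversallyInjective (Spec.map φ) := by
  suffices H : ∀ (K : Type u) [Field K], Function.Injective (fun g : Spec (.of K) ⟶ Spec R => g ≫ Spec.map φ) from
    ((tfae_universallyInjective (Spec.map φ)).out 1 0).1 H
  intro K instK g₁ g₂ hg
  obtain ⟨χ₁, rfl⟩ := Spec.map_surjective g₁
  obtain ⟨χ₂, rfl⟩ := Spec.map_surjective g₂
  simp only [← Spec.map_comp] at hg
  have hg' := Spec.map_injective hg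
  haveI : ExpChar K (ringExpChar k) := expChar_of_injective_ringHom (φ ≫ χ₁).hom.injective _
  refine congrArg Spec.map (CommRingCat.hom_ext (RingHom.ext fun a => ?_))
  obtain ⟨n, c, hn⟩ := h a
  have e : ∀ χ : R ⟶ CommRingCat.of K, χ.hom a ^ (ringExpChar k ^ n) = χ.hom (φ c) := fun χ => by
    have := (hn.map χ.hom).eq_zero
    rwa [map_sub, map_pow, sub_eq_zero] at this
  refine (iterateFrobenius K (ringExpChar k) n).injective ?_
  rw [iterateFrobenius_def, iterateFrobenius_def, e, e]
  exact ConcreteCategory.congr_hom hg' c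

theorem exists_pow_sub_isNilpotent [UniversallyInjective (Spec.map φ)] (hfin : φ.hom.Finite) (a : R) :
    ∃ (n : ℕ) (c : k), IsNilpotent (a ^ (ringExpChar k ^ n) - φ c) := by
  letI : Algebra k R := φ.hom.toAlgebra
  haveI : Module.Finite k R := hfin
  haveI : Subsingleton ↥(Spec R) := (Spec.map φ).injective.subsingleton
  haveI : Subsingleton (PrimeSpectrum R) := ‹Subsingleton ↥(Spec R)›
  rcases subsingleton_or_nontrivial R with hR | hR
  · exact ⟨0, 0, ⟨1, Subsingleton.elim _ _⟩⟩
  obtain ⟨m, hm⟩ := Ideal.exists_maximal R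
  haveI := hm
  letI : Field (R ⧸ m) := Ideal.Quotient.field m
  haveI : IsPurelyInseparable k (R ⧸ m) := by
    rw [isPurelyInseparable_iff_subsingleton_emb]
    refine ⟨fun σ₁ σ₂ => AlgHom.ext fun x => ?_⟩
    obtain ⟨r, rfl⟩ := Ideal.Quotient.mk_surjective x
    have H : ∀ (K : Type u) [Field K], Function.Injective (fun g : Spec (.of K) ⟶ Spec R => g ≫ Spec.map φ) :=
      ((tfae_universallyInjective (Spec.map φ)).out 0 1).1 (by infer_instance)
    have h := @H (AlgebraicClosure (R ⧸ m)) _
      (Spec.map (CommRingCat.ofHom (σ₁.toRingHom.comp (Ideal.Quotient.mk m))))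
      (Spec.map (CommRingCat.ofHom (σ₂.toRingHom.comp (Ideal.Quotient.mk m)))) (by
      show Spec.map _ ≫ Spec.map φ = Spec.map _ ≫ Spec.map φ
      rw [← Spec.map_comp, ← Spec.map_comp]
      refine congrArg Spec.map (CommRingCat.hom_ext (RingHom.ext fun c => ?_))
      exact (σ₁.commutes c).trans (σ₂.commutes c).symm)
    exact congrArg (fun χ => χ.hom r) (Spec.map_injective h)
  obtain ⟨n, c, hc⟩ := IsPurelyInseparable.pow_mem k (ringExpChar k) (Ideal.Quotient.mk m a)
  refine ⟨n, c, nilpotent_iff_mem_prime.2 fun p hp => ?_⟩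
  rw [show p = m from congrArg PrimeSpectrum.asIdeal (Subsingleton.elim (⟨p, hp⟩ : PrimeSpectrum R) ⟨m, inferInstance⟩),
    ← Ideal.Quotient.eq_zero_iff_mem, map_sub, map_pow, sub_eq_zero, ← hc]
  rfl

theorem geometricallyConnected_iff_globalSections (f : X ⟶ Spec (CommRingCat.of k)) [IsProper f] :
    GeometricallyConnected f ↔
      (IsLocalRing Γ(X, ⊤) ∧ ringKrullDim Γ(X, ⊤) = 0 ∧
        ∀ a : Γ(X, ⊤), ∃ (n : ℕ) (c : k),
          IsNilpotent (a ^ (ringExpChar k ^ n) - f.appTop.hom ((Scheme.ΓSpecIso (CommRingCat.of k)).inv.hom c))) := by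
  let φ := (Scheme.ΓSpecIso (CommRingCat.of k)).inv ≫ f.appTop
  have hfin : φ.hom.Finite := finite_toGlobal k f
  have hfac : X.toSpecΓ ≫ Spec.map φ = f := by
    rw [Spec.map_comp, ← Scheme.toSpecΓ_naturality_assoc, ← SpecMap_ΓSpecIso_hom, ← Spec.map_comp]
    simp
  haveI : IsFinite (Spec.map φ) := (IsFinite.SpecMap_iff φ).2 hfin
  haveI : IsProper (X.toSpecΓ ≫ Spec.map φ) := by rw [hfac]; infer_instance
  haveI : IsProper X.toSpecΓ := IsProper.of_comp X.toSpecΓ (Spec.map φ)
  haveI := geometricallyConnected_toSpecΓ X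
  haveI : Surjective X.toSpecΓ := inferInstance
  constructor
  · intro h
    have hb : FlatMor.IsUnivHomeo (Spec.map φ) :=
      isUnivHomeo_of_geometricallyConnected X.toSpecΓ (Spec.map φ) (by rw [hfac]; exact h)
    haveI := GrothLib.Frob.universallyInjective_of _ hb
    have hh := GrothLib.Frob.isHomeomorph_of _ hb
    haveI : Subsingleton (PrimeSpectrum Γ(X, ⊤)) := hh.injective.subsingleton
    haveI : Nonempty (PrimeSpectrum Γ(X, ⊤)) :=
      ⟨(hh.surjective (⟨⊥, Ideal.bot_prime⟩ : PrimeSpectrum k)).choose⟩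
    haveI : Nontrivial Γ(X, ⊤) := PrimeSpectrum.nonempty_iff_nontrivial.1 ‹_›
    haveI : IsLocalRing Γ(X, ⊤) := IsLocalRing.of_unique_max_ideal (by
      obtain ⟨m, hm⟩ := Ideal.exists_maximal Γ(X, ⊤)
      exact ⟨m, hm, fun p hp => congrArg PrimeSpectrum.asIdeal
        (Subsingleton.elim (⟨p, hp.isPrime⟩ : PrimeSpectrum Γ(X, ⊤)) ⟨m, hm.isPrime⟩)⟩)
    haveI : Ring.KrullDimLE 0 Γ(X, ⊤) := by
      rw [Ring.krullDimLE_zero_iff]
      intro I hI
      obtain ⟨m, hm, hle⟩ := Ideal.exists_le_maximal I hI.ne_top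
      rwa [show I = m from congrArg PrimeSpectrum.asIdeal
        (Subsingleton.elim (⟨I, hI⟩ : PrimeSpectrum Γ(X, ⊤)) ⟨m, hm.isPrime⟩)]
    exact ⟨inferInstance, ringKrullDimZero_iff_ringKrullDim_eq_zero.1 inferInstance, fun a => exists_pow_sub_isNilpotent φ hfin a⟩
  · rintro ⟨hloc, -, hpow⟩
    haveI := universallyInjective_of_pow_sub φ hpow
    haveI : Nonempty ↥(Spec Γ(X, ⊤)) := inferInstanceAs (Nonempty (PrimeSpectrum Γ(X, ⊤)))
    haveI : Surjective (Spec.map φ) := ⟨fun p => ⟨Nonempty.some ‹_›,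
      Subsingleton.elim (α := PrimeSpectrum k) _ _⟩⟩
    rw [← hfac]
    exact geometricallyConnected_comp_univHomeo _ _ (GrothLib.Frob.isUnivHomeo_of _)

end GrothLib.Stein
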