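import Groth.Agent.Lib.Stein.General
import Groth.Agent.Lib.NormalExt.Basic
import Groth.Prelude.Def_Pi1

/-!
# Proper morphisms to a normal scheme with trivial generic functions
-/

set_option autoImplicit false
set_option backward.isDefEq.respectTransparency false
set_option linter.style.haveILetI false

universe u

open CategoryTheory CategoryTheory.Limits AlgebraicGeometry TopologicalSpace

namespace GrothLib.Stein

variable {X S : Scheme.{u}}

theorem isIntegral_app_of_universallyClosed (f : X ⟶ S) [UniversallyClosed f] {U : S.Opens}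
    (hU : IsAffineOpen U) : (f.app U).hom.IsIntegral := by
  haveI : IsAffine U.toScheme := hU
  haveI : UniversallyClosed (f ∣_ U) := IsZariskiLocalAtTarget.restrict ‹_› U
  have h := isIntegral_appTop_of_universallyClosed (f ∣_ U)
  rw [morphismRestrict_appTop] at h
  have h2 := (RingHom.isIntegral_respectsIso.cancel_right_isIso _ _).1 h
  rwa [U.ι_image_top] at h2

theorem bijective_app_of_normal (f : X ⟶ S) [UniversallyClosed f] [IsIntegral S]
    (hS : Pi1.IsNormalScheme S) [IsReduced X]
    (hgen : ∀ Z ∈ irreducibleComponents ↑X, ∀ x : X, IsGenericPoint x Z → f x = genericPoint ↑S)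
    (h0 : Function.Bijective ((f.fiberToSpecResidueField (genericPoint ↑S)).appTop))
    {U : S.Opens} (hU : IsAffineOpen U) (hne : Nonempty U) : Function.Bijective (f.app U) := by
  let η := genericPoint S
  have hηU : η ∈ U := ((genericPoint_spec S).mem_open_set_iff U.isOpen).mpr (by simpa using hne)
  let q := S.fromSpecResidueField η
  let g := f.fiberToSpecResidueField η
  have hq : q ⁻¹ᵁ U = ⊤ := top_le_iff.1 fun z _ => by
    show q z ∈ U
    rw [Scheme.fromSpecResidueField_apply]; exact hηU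
  have hr : ⊤ ≤ f.fiberι η ⁻¹ᵁ (f ⁻¹ᵁ U) := fun z _ => by
    show f (f.fiberι η z) ∈ U
    have hz : f.fiberι η z ∈ f ⁻¹' {η} := (f.range_fiberι η).le ⟨z, rfl⟩
    rw [show f (f.fiberι η z) = η from hz]; exact hηU
  let α : Γ(S, U) ⟶ Γ(Spec (S.residueField η), ⊤) := q.appLE U ⊤ hq.ge
  let r : Γ(X, f ⁻¹ᵁ U) ⟶ Γ(f.fiber η, ⊤) := (f.fiberι η).appLE (f ⁻¹ᵁ U) ⊤ hr
  have hsq : f.app U ≫ r = α ≫ g.appTop := by
    show f.app U ≫ (f.fiberι η).appLE (f ⁻¹ᵁ U) ⊤ hr = q.appLE U ⊤ hq.ge ≫ g.app ⊤
    rw [Scheme.Hom.app_eq_appLE, Scheme.Hom.app_eq_appLE, Scheme.Hom.appLE_comp_appLE,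
      Scheme.Hom.appLE_comp_appLE]
    congr 1
    exact pullback.condition
  have hα : α = S.presheaf.germ U η hηU ≫ S.residue η ≫ (Scheme.ΓSpecIso (S.residueField η)).inv := by
    show (Spec.map (S.residue η) ≫ S.fromSpecStalk η).appLE U ⊤ hq.ge = _
    have h1 : ⊤ ≤ S.fromSpecStalk η ⁻¹ᵁ U := fun z _ => by
      have hsp : S.fromSpecStalk η z ⤳ η := S.range_fromSpecStalk.le ⟨z, rfl⟩
      exact hsp.mem_open U.2 hηU
    rw [← Scheme.Hom.appLE_comp_appLE (Spec.map (S.residue η)) (S.fromSpecStalk η) U ⊤ ⊤ h1 le_top,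
      Scheme.Hom.appLE, Scheme.fromSpecStalk_app hηU, Category.assoc, Category.assoc, Category.assoc,
      ← Functor.map_comp_assoc]
    congr 1
    rw [Scheme.ΓSpecIso_inv_naturality]
    congr 1
  haveI : Nonempty U := hne
  haveI : IsIntegrallyClosed Γ(S, U) := NormalExt.isIntegrallyClosed_Γ (fun x => (hS x).2) U hU
  haveI : IsFractionRing Γ(S, U) S.functionField := functionField_isFractionRing_of_isAffineOpen S U hU
  have hres : Function.Bijective (S.residue η ≫ (Scheme.ΓSpecIso (S.residueField η)).inv) := by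
    refine ⟨fun a b h => ?_, ?_⟩
    · refine RingHom.injective (show S.functionField →+* _ from (S.residue η).hom) ?_
      exact (ConcreteCategory.bijective_of_isIso (Scheme.ΓSpecIso (S.residueField η)).inv).1 h
    · exact (ConcreteCategory.bijective_of_isIso (Scheme.ΓSpecIso (S.residueField η)).inv).2.comp
        (S.residue_surjective η)
  have hαinj : Function.Injective α := by
    rw [hα]
    exact hres.1.comp (IsFractionRing.injective Γ(S, U) S.functionField)
  have hrinj : Function.Injective r := by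
    rw [injective_iff_map_eq_zero]
    intro s hs
    rw [← basicOpen_eq_bot_iff]
    refine bot_unique fun x hx => ?_
    obtain ⟨ξ, hξ⟩ := QuasiSober.sober (isIrreducible_irreducibleComponent (x := x))
      (isClosed_irreducibleComponent (x := x))
    have hξs : ξ ∈ X.basicOpen s :=
      (hξ.specializes mem_irreducibleComponent).mem_open (X.basicOpen s).2 hx
    obtain ⟨z, hz⟩ := (f.range_fiberι η).ge
      (show ξ ∈ f ⁻¹' {η} from hgen _ (irreducibleComponent_mem_irreducibleComponents x) ξ hξ)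
    have h1 : z ∈ f.fiberι η ⁻¹ᵁ X.basicOpen s := show f.fiberι η z ∈ X.basicOpen s from hz ▸ hξs
    have h2 : z ∈ (f.fiber η).basicOpen (r s) := by
      rw [Scheme.basicOpen_appLE]
      exact ⟨trivial, h1⟩
    rw [hs, Scheme.basicOpen_zero] at h2
    exact h2.elim
  have hinj : Function.Injective (f.app U) := fun a b h => by
    refine hαinj (h0.1 ?_)
    rw [← CommRingCat.comp_apply, ← CommRingCat.comp_apply, ← hsq, CommRingCat.comp_apply,
      CommRingCat.comp_apply, h]
  refine ⟨hinj, fun z => ?_⟩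
  obtain ⟨k₀, hk₀⟩ := h0.2 (r z)
  obtain ⟨k, rfl⟩ := hres.2 k₀
  have hint : IsIntegral Γ(S, U) k := by
    obtain ⟨P, hP, hPz⟩ := isIntegral_app_of_universallyClosed f hU z
    refine ⟨P, hP, (hres.1.comp fun a b h => h) ?_⟩
    refine h0.1 ?_
    have e : (g.appTop.hom.comp (S.residue η ≫ (Scheme.ΓSpecIso (S.residueField η)).inv).hom).comp
        (algebraMap Γ(S, U) S.functionField) = r.hom.comp (f.app U).hom := by
      rw [← CommRingCat.hom_comp (f.app U) r, hsq, hα]
      rfl
    show g.appTop.hom ((S.residue η ≫ (Scheme.ΓSpecIso (S.residueField η)).inv).hom (P.eval₂ _ k)) =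
      g.appTop.hom ((S.residue η ≫ (Scheme.ΓSpecIso (S.residueField η)).inv).hom 0)
    rw [← RingHom.comp_apply, Polynomial.hom_eval₂, e, RingHom.comp_apply, map_zero, map_zero,
      show g.appTop.hom ((S.residue η ≫ (Scheme.ΓSpecIso (S.residueField η)).inv).hom k) = r z from hk₀,
      ← Polynomial.hom_eval₂, hPz, map_zero]
  obtain ⟨a, ha⟩ := IsIntegrallyClosed.algebraMap_eq_of_integral hint
  refine ⟨a, hrinj ?_⟩
  rw [← CommRingCat.comp_apply, hsq, CommRingCat.comp_apply, ← hk₀, hα, ← ha]
  rfl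

end GrothLib.Stein
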