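import Groth.Agent.Lib.GeomUnib.Radicial
import Groth.Agent.Lib.PropH0.SepNorm
import Mathlib.FieldTheory.PurelyInseparable.Basic

/-!
# Purely inseparable integral extensions of geometrically unibranch domains
-/

set_option autoImplicit false
set_option linter.style.haveILetI false

universe u

open CategoryTheory AlgebraicGeometry

namespace GrothLib.Stein

variable {A B : Type u} [CommRing A] [CommRing B] {φ : A →+* B}

theorem radic_of_radic_comp {C : Type u} [CommRing C] (ψ : A →+* C) (e : C →+* B)
    (he : Function.Surjective (PrimeSpectrum.comap e)) (h : GrothLib.UHTower.Radic (e.comp ψ)) :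
    GrothLib.UHTower.Radic ψ := by
  haveI : UniversallyInjective (Spec.map (CommRingCat.ofHom e) ≫ Spec.map (CommRingCat.ofHom ψ)) := by
    rw [← Spec.map_comp, ← CommRingCat.ofHom_comp]
    exact GrothLib.UHTower.universallyInjective_iff_radic.2 h
  haveI : Surjective (Spec.map (CommRingCat.ofHom e)) := ⟨he⟩
  exact GrothLib.UHTower.universallyInjective_iff_radic.1
    (GrothLib.Frob.universallyInjective_of_comp_surjective (Spec.map (CommRingCat.ofHom e)) _)

/-- Radiciality is inherited by a domain in which some `p`-power of each element lies in a radicial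
subextension. -/
theorem radic_of_pow_mem {T L : Type u} [CommRing T] [CommRing B] [Field L] {φ : A →+* B}
    (φT : A →+* T) (hT : GrothLib.UHTower.Radic φT) (hTint : φT.IsIntegral) (j : B →+* L)
    (hj : Function.Injective j) (ι : T →+* L) (hι : Function.Injective ι)
    (hcomm : ∀ a, ι (φT a) = j (φ a)) (p : ℕ) [hp : ExpChar A p]
    (hpow : ∀ b : B, ∃ (n : ℕ) (c : T), ι c = j b ^ (p ^ n)) : GrothLib.UHTower.Radic φ := by
  let C : Subring T := j.range.comap ι
  let ψ : A →+* C := φT.codRestrict C fun a => ⟨φ a, (hcomm a).symm⟩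
  have hCint : (C.subtype).IsIntegral := RingHom.IsIntegral.tower_top ψ C.subtype (by exact hTint)
  have hψ : GrothLib.UHTower.Radic ψ := radic_of_radic_comp ψ C.subtype
    (hCint.comap_surjective Subtype.val_injective) (by exact hT)
  let e : B ≃+* j.range := RingEquiv.ofBijective j.rangeRestrict
    ⟨fun a b e => hj (congrArg Subtype.val e), j.rangeRestrict_surjective⟩
  let h : C →+* B := e.symm.toRingHom.comp ((ι.comp C.subtype).codRestrict j.range fun c => c.2)
  have hh : ∀ c : C, j (h c) = ι c.1 := fun c => congrArg Subtype.val (e.apply_symm_apply _)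
  intro Ω _ f g hfg
  have hC : f.comp h = g.comp h := hψ Ω _ _ (RingHom.ext fun a => by
    show f (h (ψ a)) = g (h (ψ a))
    rw [show h (ψ a) = φ a from hj ((hh _).trans (hcomm a))]
    exact RingHom.congr_fun hfg a)
  refine RingHom.ext fun b => ?_
  obtain ⟨n, c, hc⟩ := hpow b
  let c' : C := ⟨c, ⟨b ^ (p ^ n), by rw [map_pow, hc]⟩⟩
  have hb : b ^ (p ^ n) = h c' := hj (by rw [map_pow, hh, ← hc])
  have hpe : f b ^ (p ^ n) = g b ^ (p ^ n) := by
    rw [← map_pow, ← map_pow, hb]
    exact RingHom.congr_fun hC c'
  rcases hp with _ | ⟨hprime⟩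
  · simpa using hpe
  · haveI := Fact.mk hprime
    have h0 : (p : Ω) = 0 := by
      rw [← map_natCast (f.comp φ) p, CharP.cast_eq_zero, map_zero]
    haveI : CharP Ω p := (CharP.charP_iff_prime_eq_zero hprime).2 h0
    exact iterateFrobenius_inj Ω p n (by simpa [iterateFrobenius_def] using hpe)

/-- The fraction field extension is purely inseparable when the generic fibre is radicial. -/
theorem isPurelyInseparable_of_generic {K L : Type u} [Field K] [Field L] [Algebra A K]
    [Algebra B L] [IsFractionRing A K] [IsFractionRing B L] [IsDomain A] [IsDomain B] [Algebra K L]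
    (hcomm : ∀ a, algebraMap K L (algebraMap A K a) = algebraMap B L (φ a))
    (hgen : ∀ (Ω : Type u) [Field Ω] (f g : B →+* Ω), Function.Injective (f.comp φ) → f.comp φ = g.comp φ → f = g) :
    IsPurelyInseparable K L := by
  have hint : ∀ σ : Field.Emb K L, ((σ : L →+* _).comp (algebraMap B L)).comp φ =
      (algebraMap K (AlgebraicClosure L)).comp (algebraMap A K) := fun σ => by
    refine RingHom.ext fun a => ?_
    show σ (algebraMap B L (φ a)) = _
    rw [← hcomm]
    exact σ.commutes _
  rw [isPurelyInseparable_iff_subsingleton_emb]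
  refine ⟨fun σ₁ σ₂ => AlgHom.coe_ringHom_injective (IsLocalization.ringHom_ext (nonZeroDivisors B) ?_)⟩
  refine hgen _ _ _ ?_ ((hint σ₁).trans (hint σ₂).symm)
  rw [hint σ₁]
  exact (algebraMap K (AlgebraicClosure L)).injective.comp (IsFractionRing.injective A K)

theorem radic_of_isGeomUnibranch_aux {K L : Type u} [Field K] [Field L] [Algebra A B] [Algebra A K]
    [Algebra B L] [Algebra A L] [IsScalarTower A B L] [IsFractionRing A K] [IsFractionRing B L]
    [Algebra K L] [IsScalarTower A K L] [IsDomain A] [IsDomain B] [Algebra.IsIntegral A B]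
    (hA : ∀ (q : Ideal A) [q.IsPrime], CAlg2.IsGeomUnibranch (Localization.AtPrime q))
    (hgen : ∀ (Ω : Type u) [Field Ω] (f g : B →+* Ω), Function.Injective (f.comp (algebraMap A B)) →
      f.comp (algebraMap A B) = g.comp (algebraMap A B) → f = g) :
    GrothLib.UHTower.Radic (algebraMap A B) := by
  have hcomm : ∀ a : A, algebraMap K L (algebraMap A K a) = algebraMap B L (algebraMap A B a) := fun a => by
    rw [← IsScalarTower.algebraMap_apply A K L, ← IsScalarTower.algebraMap_apply A B L]
  haveI : IsPurelyInseparable K L :=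
    isPurelyInseparable_of_generic (A := A) (B := B) (φ := algebraMap A B) hcomm hgen
  let T := integralClosure A K
  haveI : IsIntegrallyClosed T := GrothLib.PropH0.isIntegrallyClosed_closure
  have hTinj : Function.Injective (algebraMap A T) := fun a b h =>
    IsFractionRing.injective A K (congrArg Subtype.val h)
  have hTint : (algebraMap A T).IsIntegral := algebraMap_isIntegral_iff.2 inferInstance
  have hker : RingHom.ker (algebraMap A T) = nilradical A := by
    rw [(RingHom.injective_iff_ker_eq_bot _).mp hTinj, nilradical_eq_zero, Ideal.zero_eq_bot]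
  have hbir : ∀ t, ∃ a b, algebraMap A T b ≠ 0 ∧ t * algebraMap A T b = algebraMap A T a := fun t => by
    obtain ⟨⟨a, d⟩, hd⟩ := IsLocalization.surj (nonZeroDivisors A) (t : K)
    exact ⟨a, d, (map_ne_zero_iff _ hTinj).mpr (nonZeroDivisors.coe_ne_zero d), Subtype.ext hd⟩
  have hradT : GrothLib.UHTower.Radic (algebraMap A T) :=
    (GrothLib.GeomUnib.forall_isGeomUnibranch_iff_radic hker hTint hbir).1 hA
  obtain ⟨p, hp⟩ := ExpChar.exists K
  haveI := hp
  haveI : ExpChar A p := (algebraMap A K).expChar (IsFractionRing.injective A K) p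
  refine radic_of_pow_mem (algebraMap A T) hradT hTint (algebraMap B L) (IsFractionRing.injective B L)
    ((algebraMap K L).comp T.val.toRingHom) ((algebraMap K L).injective.comp Subtype.val_injective)
    hcomm p fun b => ?_
  obtain ⟨n, k, hk⟩ := IsPurelyInseparable.pow_mem K p (algebraMap B L b)
  have hkint : IsIntegral A k := by
    refine (isIntegral_algHom_iff (IsScalarTower.toAlgHom A K L) (algebraMap K L).injective).1 ?_
    show IsIntegral A (algebraMap K L k)
    rw [hk]
    exact ((Algebra.IsIntegral.isIntegral (R := A) b).algebraMap (B := L)).pow _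
  exact ⟨n, ⟨k, hkint⟩, hk⟩

/-- Extend radiciality from the generic fibre to the whole of an integral extension of a
geometrically unibranch domain. -/
theorem radic_of_isGeomUnibranch [IsDomain A] [IsDomain B] (hinj : Function.Injective φ)
    (hint : φ.IsIntegral) (hA : ∀ (q : Ideal A) [q.IsPrime], CAlg2.IsGeomUnibranch (Localization.AtPrime q))
    (hgen : ∀ (Ω : Type u) [Field Ω] (f g : B →+* Ω), Function.Injective (f.comp φ) → f.comp φ = g.comp φ → f = g) :
    GrothLib.UHTower.Radic φ := by
  letI : Algebra A B := φ.toAlgebra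
  haveI : FaithfulSMul A B := (faithfulSMul_iff_algebraMap_injective A B).2 hinj
  haveI : Algebra.IsIntegral A B := ⟨hint⟩
  haveI : FaithfulSMul A (FractionRing B) := (faithfulSMul_iff_algebraMap_injective A (FractionRing B)).2 (by
    rw [IsScalarTower.algebraMap_eq A B (FractionRing B)]
    exact (IsFractionRing.injective B (FractionRing B)).comp hinj)
  letI : Algebra (FractionRing A) (FractionRing B) := FractionRing.liftAlgebra A (FractionRing B)
  exact radic_of_isGeomUnibranch_aux (K := FractionRing A) (L := FractionRing B) hA hgen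

end GrothLib.Stein
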