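import Groth.Agent.Lib.PropH0.Noeth
import Groth.Agent.Lib.BCCoh.RpushAffine
import Mathlib.Topology.NoetherianSpace
import Mathlib.AlgebraicGeometry.Noetherian

/-! # Functions separating the connected components of the fibres of a proper morphism -/

set_option autoImplicit false
set_option linter.style.haveILetI false
universe u

open CategoryTheory CategoryTheory.Limits AlgebraicGeometry Opposite TopologicalSpace

namespace GrothLib.Stein

open GrothLib.PropH0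

variable {A : Type u} [CommRing A] {X : Scheme.{u}} (f : X ⟶ Spec (CommRingCat.of A)) (I : Ideal A)

/-- **Functions separating disjoint closed pieces of the preimage of a closed subset.** -/
theorem exists_good [IsNoetherianRing A] [IsProper f] (C C' : Set X)
    (hC : IsClosed C) (hC' : IsClosed C') (hu : C ∪ C' = Z0 f I) (hd : Disjoint C C') :
    ∃ b : Γ(X, ⊤), (∀ x, x ∈ C → ev (V := ⊤) x trivial b = 0) ∧ ∀ x, x ∈ C' → ev (V := ⊤) x trivial b = 1 := by
  classical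
  haveI : CompactSpace X := QuasiCompact.compactSpace_of_compactSpace f
  haveI : X.IsSeparated := ⟨by rw [← terminal.comp_from f]; infer_instance⟩
  obtain ⟨κ, _, U, hU, -, hcov⟩ := QCoh.exists_finite_affine_cover (U := (⊤ : X.Opens))
    (by simpa using isCompact_univ)
  have hcov' : iSup U = ⊤ := top_le_iff.1 hcov
  have haff : ∀ (n : ℕ) (a : Fin (n + 1) → κ), IsAffineOpen (⨅ k, U (a k)) :=
    fun n a => IsAffineOpen.iInf fun k => hU (a k)
  have haff2 : ∀ i j, IsAffineOpen (U i ⊓ U j) := fun i j => (hU i).inf (hU j)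
  obtain ⟨⟨c, hc⟩, -⟩ := exists_glue f U I hcov' haff
  set n := c + 1
  have hn : ∀ (W : X.Opens), (I ^ n).map (σ f W) ≤ (I ^ c).map (σ f W) := fun W =>
    Ideal.map_mono (Ideal.pow_le_pow_right (Nat.le_succ c))
  -- values on the closed fibre
  let Good : ∀ {W : X.Opens}, Γ(X, W) → Prop := fun {W} s =>
    (∀ x (hx : x ∈ W), x ∈ C → ev x hx s = 0) ∧ ∀ x (hx : x ∈ W), x ∈ C' → ev x hx s = 1
  have hgood : ∀ {W : X.Opens}, IsAffineOpen W → ∀ (s t : Γ(X, W)), Good s → Good t →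
      s - t ∈ (I.map (σ f W)).radical := fun {W} hW s t hs ht =>
    mem_radical_of_vanish f I hW fun x hx hxZ => by
      rw [← hu] at hxZ
      rcases hxZ with hxZ | hxZ
      · rw [map_sub, hs.1 x hx hxZ, ht.1 x hx hxZ, sub_zero]
      · rw [map_sub, hs.2 x hx hxZ, ht.2 x hx hxZ, sub_self]
  have hres : ∀ {V W : X.Opens} (h : W ≤ V) (s : Γ(X, V)), Good s → Good (X.presheaf.map (homOfLE h).op s) :=
    fun h s hs => ⟨fun x hx hxC => (ev_res h x hx s).trans (hs.1 x _ hxC),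
      fun x hx hxC => (ev_res h x hx s).trans (hs.2 x _ hxC)⟩
  have himp : ∀ {W : X.Opens} (b e : Γ(X, W)), Good b → b ∣ e → (1 - b) ∣ (1 - e) → Good e :=
    fun {W} b e hb h1 h2 => ⟨fun x hx hxC => ev_eq_zero_of_dvd h1 x hx (hb.1 x hx hxC),
      fun x hx hxC => (sub_eq_zero.1 (by
        rw [← map_one (ev x hx), ← map_sub]
        exact ev_eq_zero_of_dvd h2 x hx (by rw [map_sub, map_one, hb.2 x hx hxC, sub_self]))).symm⟩
  have hloc : ∀ i, ∃ e : Γ(X, U i), Good e ∧ e * (1 - e) ∈ (I ^ n).map (σ f (U i)) := by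
    intro i
    obtain ⟨b, hb⟩ := exists_sep (hU i) hC hC' hd
    have hmem : b * (1 - b) ∈ ((I ^ n).map (σ f (U i))).radical := by
      rw [radical_map_pow f I _ n c.succ_ne_zero]
      refine mem_radical_of_vanish f I (hU i) fun x hx hxZ => ?_
      rw [← hu] at hxZ
      rcases hxZ with hxZ | hxZ
      · rw [map_mul, hb.1 x hx hxZ, zero_mul]
      · rw [map_mul, map_sub, map_one, hb.2 x hx hxZ, sub_self, mul_zero]
    obtain ⟨m, hm⟩ := hmem
    obtain ⟨e, he1, he2, k, hk⟩ := exists_improve b m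
    exact ⟨e, himp b e hb he1 he2, hk ▸ Ideal.mul_mem_right _ _ hm⟩
  choose e heG heI using hloc
  obtain ⟨b, hb⟩ := hc e fun i j => hn _ (by
    refine sub_mem_of_idem _ _ _ ?_ ?_ ?_
    · have h := map_mem f (inf_le_left : U i ⊓ U j ≤ U i) _ (heI i)
      rwa [map_mul, map_sub, map_one] at h
    · have h := map_mem f (inf_le_right : U i ⊓ U j ≤ U j) _ (heI j)
      rwa [map_mul, map_sub, map_one] at h
    · rw [radical_map_pow f I _ n c.succ_ne_zero]
      exact hgood (haff2 i j) _ _ (hres _ _ (heG i)) (hres _ _ (heG j)))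
  have hbev : ∀ x (i : κ) (hx : x ∈ U i), x ∈ Z0 f I → ev (V := ⊤) x trivial b = ev x hx (e i) := by
    intro x i hx hxZ
    have h := ev_eq_zero_of_mem_map f I (hb i) x hx hxZ
    rw [map_sub, sub_eq_zero, ev_res] at h
    exact h
  have hcovx : ∀ x : X, ∃ i, x ∈ U i := fun x => Opens.mem_iSup.1 (hcov' ▸ (trivial : x ∈ (⊤ : X.Opens)))
  have hbG : Good b := by
    constructor <;> intro x _ hxC <;> obtain ⟨i, hi⟩ := hcovx x
    · exact (hbev x i hi (hu ▸ Or.inl hxC)).trans ((heG i).1 x hi hxC)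
    · exact (hbev x i hi (hu ▸ Or.inr hxC)).trans ((heG i).2 x hi hxC)
  exact ⟨b, fun x hx => hbG.1 x trivial hx, fun x hx => hbG.2 x trivial hx⟩

section Spread

variable {Y : Scheme.{u}}

/-- A closed subset of a preimage of a point closure which avoids the fibre can be avoided. -/
theorem exists_open_avoid (f : X ⟶ Y) [UniversallyClosed f] {y : Y} {B : Set X} (hB : IsClosed B)
    (h : ∀ x ∈ B, f x ≠ y) : ∃ W : Y.Opens, y ∈ W ∧ ∀ x ∈ B, f x ∉ W :=
  ⟨⟨(f '' B)ᶜ, (f.isClosedMap _ hB).isOpen_compl⟩, fun ⟨x, hx, e⟩ => h x hx e, fun x hx h' => h' ⟨x, hx, rfl⟩⟩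

/-- **Disjoint closed pieces of a fibre are separated by a function defined near the point.** -/
theorem exists_separating (f : X ⟶ Y) [IsProper f] [IsLocallyNoetherian Y] (y : Y) (P Q : Set X)
    (hP : closure P ∩ f ⁻¹' {y} = P) (hQ : closure Q ∩ f ⁻¹' {y} = Q)
    (hu : P ∪ Q = f ⁻¹' {y}) (hd : Disjoint P Q) :
    ∃ (V : Y.Opens), IsAffineOpen V ∧ ∃ hyV : y ∈ V, ∃ b : Γ(X, f ⁻¹ᵁ V),
      ∀ x (hx : x ∈ f ⁻¹ᵁ V), (x ∈ P → ev x hx b = 0) ∧ (x ∈ Q → ev x hx b = 1) := by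
  obtain ⟨V₀, hV₀, hyV₀, -⟩ := exists_isAffineOpen_mem_and_subset (show y ∈ (⊤ : Y.Opens) from trivial)
  haveI : IsLocallyNoetherian X := LocallyOfFiniteType.isLocallyNoetherian f
  let T : Set Y := closure {y}
  let X₀ : X.Opens := f ⁻¹ᵁ V₀
  haveI : CompactSpace (X₀ : Scheme.{u}) :=
    isCompact_iff_compactSpace.1 (f.isCompact_preimage hV₀.isCompact)
  haveI : IsNoetherian (X₀ : Scheme.{u}) := {}
  -- the part of the preimage of the closure avoiding the closure of the fibre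
  let Z : Set X₀ := X₀.ι ⁻¹' (f ⁻¹' T)
  have hZ : IsClosed Z := (isClosed_closure.preimage f.continuous).preimage X₀.ι.continuous
  obtain ⟨S, hSfin, hSc, hSi, hSZ⟩ := NoetherianSpace.exists_finite_set_isClosed_irreducible hZ
  let Bad : Set (Set X₀) := {K ∈ S | ∀ x ∈ K, f (X₀.ι x) ≠ y}
  have hbadc : IsClosed (⋃₀ Bad) := by
    rw [Set.sUnion_eq_biUnion]
    exact (hSfin.subset (Set.sep_subset _ _)).isClosed_biUnion fun K hK => hSc K hK.1
  have hgood : ∀ K ∈ S, ∀ x ∈ K, f (X₀.ι x) = y → ∀ z ∈ K, X₀.ι z ∈ closure P ∪ closure Q := by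
    intro K hK x hxK hxy z hzK
    obtain ⟨ξ, hξ⟩ := QuasiSober.sober (hSi K hK) (hSc K hK)
    have hξy : f (X₀.ι ξ) = y := by
      have h1 : f (X₀.ι ξ) ∈ T := (hSZ ▸ Set.mem_sUnion.2 ⟨K, hK, hξ.mem⟩ : ξ ∈ Z)
      have h2 : f (X₀.ι ξ) ⤳ y := hxy ▸ ((hξ.specializes hxK).map X₀.ι.continuous).map f.continuous
      exact (h2.antisymm (specializes_iff_mem_closure.2 h1)).eq
    have h3 : X₀.ι ξ ⤳ X₀.ι z := (hξ.specializes hzK).map X₀.ι.continuous
    rw [← closure_union, hu]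
    exact h3.mem_closed isClosed_closure (subset_closure hξy)
  obtain ⟨W₁, hyW₁, hW₁⟩ := exists_open_avoid f (y := y) (B := closure P ∩ closure Q)
    (isClosed_closure.inter isClosed_closure) fun x hx hxy =>
      Set.disjoint_left.1 hd (hP.subset ⟨hx.1, hxy⟩) (hQ.subset ⟨hx.2, hxy⟩)
  have hcomp : IsProper (f ∣_ V₀) := MorphismProperty.of_isPullback (isPullback_morphismRestrict f V₀).flip ‹_›
  obtain ⟨W₂, hyW₂, hW₂⟩ := exists_open_avoid (f ∣_ V₀) (y := (⟨y, hyV₀⟩ : (V₀ : Scheme.{u}))) hbadc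
    fun x hx hxy => by
      obtain ⟨K, ⟨-, hK⟩, hxK⟩ := hx
      exact hK x hxK (by rw [← Scheme.Hom.comp_apply, ← morphismRestrict_ι, Scheme.Hom.comp_apply, hxy]; rfl)
  obtain ⟨V, hV, hyV, hVle⟩ := exists_isAffineOpen_mem_and_subset
    (show y ∈ W₁ ⊓ V₀.ι ''ᵁ W₂ from ⟨hyW₁, ⟨⟨y, hyV₀⟩, hyW₂, rfl⟩⟩)
  haveI : IsNoetherianRing Γ(Y, V) := IsLocallyNoetherian.component_noetherian ⟨V, hV⟩
  let p : PrimeSpectrum Γ(Y, V) := hV.primeIdealOf ⟨y, hyV⟩
  let g := BCCoh.affBase f hV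
  haveI : IsProper g := inferInstanceAs (IsProper (f ∣_ V ≫ hV.isoSpec.hom))
  let U : X.Opens := f ⁻¹ᵁ V
  have hg : ∀ x : (U : Scheme.{u}), x ∈ Z0 g p.asIdeal ↔ y ⤳ f (U.ι x) := fun x => by
    have h1 : hV.fromSpec (g x) = f (U.ι x) := by
      show hV.fromSpec ((f ∣_ V ≫ hV.isoSpec.hom) x) = _
      rw [← Scheme.Hom.comp_apply, Category.assoc, hV.isoSpec_hom, hV.toSpecΓ_fromSpec, morphismRestrict_ι]
      rfl
    have h2 : hV.fromSpec p = y := hV.fromSpec_primeIdealOf ⟨y, hyV⟩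
    rw [← h1, ← h2, hV.fromSpec.isOpenEmbedding.isInducing.specializes_iff]
    exact (PrimeSpectrum.le_iff_specializes p (g x))
  have hcov : U.ι ⁻¹' closure P ∪ U.ι ⁻¹' closure Q = Z0 g p.asIdeal := by
    ext x
    rw [hg]
    constructor
    · intro hx
      have hx' : U.ι x ∈ closure (f ⁻¹' {y}) := by
        rw [← hu, closure_union]; exact hx
      exact specializes_iff_mem_closure.2 (map_mem_closure f.continuous hx' fun z hz => hz)
    · intro hx
      have hx0 : U.ι x ∈ X₀ := by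
        obtain ⟨w, -, hw⟩ := (hVle x.2).2
        show f x.1 ∈ V₀
        rw [← hw]; exact w.2
      have hxZ : (⟨U.ι x, hx0⟩ : X₀) ∈ ⋃₀ S := hSZ ▸ (specializes_iff_mem_closure.1 hx : f (U.ι x) ∈ T)
      obtain ⟨K, hK, hxK⟩ := hxZ
      by_cases hKy : ∃ z ∈ K, f (X₀.ι z) = y
      · obtain ⟨z, hz, hzy⟩ := hKy
        exact hgood K hK z hz hzy _ hxK
      · refine absurd ?_ (hW₂ ⟨U.ι x, hx0⟩ ⟨K, ⟨hK, fun z hz h => hKy ⟨z, hz, h⟩⟩, hxK⟩)
        obtain ⟨w, hw, hw'⟩ := (hVle x.2).2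
        have : w = (f ∣_ V₀) ⟨U.ι x, hx0⟩ := by
          apply V₀.ι.isOpenEmbedding.injective
          refine hw'.trans ?_
          rw [← Scheme.Hom.comp_apply (f ∣_ V₀), morphismRestrict_ι]
          rfl
        exact this ▸ hw
  obtain ⟨b, hb0, hb1⟩ := exists_good g p.asIdeal (U.ι ⁻¹' closure P) (U.ι ⁻¹' closure Q)
    (isClosed_closure.preimage U.ι.continuous) (isClosed_closure.preimage U.ι.continuous) hcov
    (Set.disjoint_left.2 fun x hx hx' => hW₁ _ ⟨hx, hx'⟩ (hVle x.2).1)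
  refine ⟨V, hV, hyV, U.topIso.hom b, fun x hx => ?_⟩
  have hev : ∀ c : Γ((U : Scheme.{u}), ⊤), ev (V := ⊤) (⟨x, hx⟩ : (U : Scheme.{u})) trivial c = 0 →
      ev x hx (U.topIso.hom c) = 0 := fun c hc => by
    refine (X.evaluation_eq_zero_iff_notMem_basicOpen (U := U) x hx _).2 fun hm => ?_
    refine ((U : Scheme.{u}).evaluation_eq_zero_iff_notMem_basicOpen (U := ⊤) _ trivial c).1 hc ?_
    have h1 := Scheme.Opens.ι_image_basicOpen_topIso_inv (U := U) (U.topIso.hom c)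
    rw [Iso.hom_inv_id_apply] at h1
    obtain ⟨z, hz, hzx⟩ := h1.ge hm
    have hz' : z = (⟨x, hx⟩ : (U : Scheme.{u})) := U.ι.isOpenEmbedding.injective hzx
    exact hz' ▸ hz
  refine ⟨fun hxP => hev _ (hb0 ⟨x, hx⟩ (subset_closure hxP)), fun hxQ => ?_⟩
  refine sub_eq_zero.1 ?_
  rw [← map_one (ev x hx), ← map_sub, ← map_one U.topIso.hom.hom, ← map_sub]
  exact hev _ (by rw [map_sub, map_one, hb1 ⟨x, hx⟩ (subset_closure hxQ), sub_self])

end Spread

end GrothLib.Stein
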