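import Groth.Agent.Lib.Stein.RadicExt
import Groth.Agent.Lib.Stein.FieldCase
import Groth.Agent.Lib.BrnchNhd.Equiv
import Groth.Agent.Lib.SN25.Scheme

/-!
# Connectedness of fibres over a geometrically unibranch base
-/

set_option autoImplicit false
set_option backward.isDefEq.respectTransparency false
set_option linter.style.haveILetI false

universe u

open CategoryTheory CategoryTheory.Limits AlgebraicGeometry TopologicalSpace

namespace GrothLib.Stein

variable {X S : Scheme.{u}}

theorem universallyInjective_generic (f : X ⟶ S) [IsProper f] {η : S}
    (hη : GeometricallyConnected (f.fiberToSpecResidueField η)) :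
    UniversallyInjective (pullback.snd f.fromNormalization (S.fromSpecResidueField η)) := by
  let a := f.toNormalization
  let b := f.fromNormalization
  let y := S.fromSpecResidueField η
  haveI := geometricallyConnected_toNormalization f
  haveI : Surjective (pullback.snd a (pullback.fst b y)) := MorphismProperty.pullback_snd _ _ inferInstance
  haveI : IsIntegralHom (pullback.snd b y) := MorphismProperty.pullback_snd _ _ inferInstance
  let e : f.fiber η ≅ pullback a (pullback.fst b y) :=
    pullback.congrHom f.toNormalization_fromNormalization.symm rfl ≪≫ (pullbackRightPullbackFstIso b y a).symm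
  have he : e.inv ≫ f.fiberToSpecResidueField η = pullback.snd a (pullback.fst b y) ≫ pullback.snd b y := by
    simp only [e, Iso.trans_inv, Iso.symm_inv, Category.assoc, Scheme.Hom.fiberToSpecResidueField,
      pullback.congrHom_inv, pullback.lift_snd, Category.comp_id]
    exact pullbackRightPullbackFstIso_hom_snd b y a
  have h2 : GeometricallyConnected (pullback.snd a (pullback.fst b y) ≫ pullback.snd b y) := by
    rw [← he]
    exact (MorphismProperty.cancel_left_of_respectsIso @GeometricallyConnected e.inv _).2 hη
  exact GrothLib.Frob.universallyInjective_of _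
    (isUnivHomeo_of_geometricallyConnected (pullback.snd a (pullback.fst b y)) (pullback.snd b y) h2)

/-- A proper morphism of integral schemes with geometrically connected generic fibre over a
geometrically unibranch base has geometrically connected fibres. -/
theorem geometricallyConnected_of_isGeomUnibranch (f : X ⟶ S) [IsProper f] [IsDominant f]
    [IsIntegral X] [IsIntegral S] (hS : ∀ s : S, CAlg2.IsGeomUnibranch (S.presheaf.stalk s))
    (hη : GeometricallyConnected (f.fiberToSpecResidueField (genericPoint S))) :
    GeometricallyConnected f := by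
  let a := f.toNormalization
  let b := f.fromNormalization
  haveI := geometricallyConnected_toNormalization f
  haveI : IsProper (a ≫ b) := by rw [f.toNormalization_fromNormalization]; infer_instance
  haveI : IsProper a := IsProper.of_comp a b
  haveI : IrreducibleSpace ↥f.normalization :=
    (irreducibleSpace_def _).2 (by
      show IsIrreducible (Set.univ : Set ↥f.normalization)
      rw [← a.surjective.range_eq, ← Set.image_univ]
      exact (IrreducibleSpace.isIrreducible_univ X).image _ a.continuous.continuousOn)
  haveI : IsIntegral f.normalization := isIntegral_of_irreducibleSpace_of_isReduced _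
  haveI : IsDominant (a ≫ b) := by rw [f.toNormalization_fromNormalization]; infer_instance
  haveI : IsDominant b := IsDominant.of_comp a b
  haveI : Surjective b := surjective_of_isDominant_of_isClosed_range b b.isClosedMap.isClosed_range
  haveI := universallyInjective_generic f hη
  have huh : FlatMor.IsUnivHomeo b := by
    refine (GrothLib.Frob.isUnivHomeo_iff b).2 ⟨inferInstance, ?_, inferInstance⟩
    have hloc : ∀ s : S, ∃ U : S.Opens, s ∈ U ∧ UniversallyInjective (b ∣_ U) := fun s => by
      obtain ⟨U, hU, hsU, -⟩ := exists_isAffineOpen_mem_and_subset (X := S) (x := s) (U := ⊤) trivial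
      refine ⟨U, hsU, ?_⟩
      haveI : Nonempty U := ⟨⟨s, hsU⟩⟩
      obtain ⟨n, hn⟩ := b.surjective s
      haveI : IsDomain Γ(f.normalization, b ⁻¹ᵁ U) :=
        @IsIntegral.component_integral f.normalization inferInstance (b ⁻¹ᵁ U) ⟨⟨n, show b n ∈ U from hn ▸ hsU⟩⟩
      have hinj : Function.Injective (b.app U).hom := by
        haveI : IsSchemeTheoreticallyDominant b := IsSchemeTheoreticallyDominant.of_isDominant b
        exact b.app_injective U
      have hint : (b.app U).hom.IsIntegral := IsIntegralHom.isIntegral_app b U hU
      have hA : ∀ (q : Ideal Γ(S, U)) [q.IsPrime], CAlg2.IsGeomUnibranch (Localization.AtPrime q) := fun p hp => by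
        let x : U := ⟨hU.fromSpec ⟨p, hp⟩, by
          have h' : hU.fromSpec ⟨p, hp⟩ ∈ hU.fromSpec.opensRange := ⟨_, rfl⟩
          rwa [IsAffineOpen.opensRange_fromSpec] at h'⟩
        have hprime : hU.primeIdealOf x = ⟨p, hp⟩ :=
          hU.fromSpec.isOpenEmbedding.injective (hU.fromSpec_primeIdealOf x)
        letI := TopCat.Presheaf.algebra_section_stalk S.presheaf x
        have hl := hU.isLocalization_stalk x
        rw [hprime] at hl
        haveI : IsLocalization.AtPrime (S.presheaf.stalk x.1) p := hl
        exact GrothLib.BrnchNhd.isGeomUnibranch_of_ringEquiv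
          (IsLocalization.algEquiv p.primeCompl (S.presheaf.stalk x.1) (Localization.AtPrime p)).toRingEquiv
          (hS x.1)
      have h2 : UniversallyInjective (Spec.map (b.app U)) := by
        refine GrothLib.UHTower.universallyInjective_iff_radic.2
          (radic_of_isGeomUnibranch (φ := (b.app U).hom) hinj hint hA fun Ω _ g₁ g₂ hg₁ hg => ?_)
        let V := hU.preimage b
        let z : (Γ(f.normalization, b ⁻¹ᵁ U) →+* Ω) → (Spec (CommRingCat.of Ω) ⟶ f.normalization) :=
          fun g => Spec.map (CommRingCat.ofHom g) ≫ V.fromSpec
        have hz : ∀ g, z g ≫ b = Spec.map (CommRingCat.ofHom (g.comp (b.app U).hom)) ≫ hU.fromSpec := fun g => by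
          show (_ ≫ _) ≫ b = _
          rw [Category.assoc, ← IsAffineOpen.SpecMap_appLE_fromSpec b hU V le_rfl, ← Scheme.Hom.app_eq_appLE,
            CommRingCat.ofHom_comp, Spec.map_comp, Category.assoc]
          rfl
        obtain ⟨w, hw⟩ : ∃ w : Spec (CommRingCat.of Ω) ⟶ Spec (S.residueField (genericPoint S)),
            w ≫ S.fromSpecResidueField (genericPoint S) = z g₁ ≫ b := by
          have hpt : (z g₁ ≫ b) (IsLocalRing.closedPoint Ω) = genericPoint S := by
            rw [hz]
            show hU.fromSpec (PrimeSpectrum.comap (g₁.comp (b.app U).hom) (IsLocalRing.closedPoint Ω)) = _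
            rw [← genericPoint_eq_of_isOpenImmersion hU.fromSpec, genericPoint_eq_bot_of_affine]
            refine congrArg _ (PrimeSpectrum.ext ?_)
            show (IsLocalRing.maximalIdeal Ω).comap (g₁.comp (b.app U).hom) = ⊥
            rw [IsLocalRing.maximalIdeal_eq_bot]
            exact (RingHom.injective_iff_ker_eq_bot _).1 hg₁
          obtain ⟨⟨t, α⟩, ht⟩ := (Scheme.SpecToEquivOfField Ω S).symm.surjective (z g₁ ≫ b)
          obtain rfl : t = genericPoint S := by
            rw [← hpt, ← ht]
            simp [Scheme.SpecToEquivOfField]
          exact ⟨Spec.map α, ht⟩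
        let l : ∀ g, z g ≫ b = z g₁ ≫ b → (Spec (CommRingCat.of Ω) ⟶ pullback b (S.fromSpecResidueField (genericPoint S))) :=
          fun g hg => pullback.lift (z g) w (hg.trans hw.symm)
        have hgb : z g₂ ≫ b = z g₁ ≫ b := by rw [hz, hz, hg]
        have hinj2 : ∀ (K : Type u) [Field K],
            Function.Injective (fun t : Spec (.of K) ⟶ pullback b (S.fromSpecResidueField (genericPoint S)) =>
              t ≫ pullback.snd b (S.fromSpecResidueField (genericPoint S))) :=
          ((tfae_universallyInjective (pullback.snd b (S.fromSpecResidueField (genericPoint S)))).out 0 1).1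
            (by assumption)
        have e := hinj2 Ω (a₁ := l g₁ rfl) (a₂ := l g₂ hgb) (by simp [l])
        have e' : z g₁ = z g₂ := by simpa [l] using congrArg (· ≫ pullback.fst _ _) e
        exact congrArg CommRingCat.Hom.hom (Spec.map_injective ((cancel_mono V.fromSpec).1 e'))
      have h3 : Spec.map (b.app U) = (hU.preimage b).isoSpec.inv ≫ (b ∣_ U) ≫ hU.isoSpec.hom := by
        rw [Scheme.Hom.app_eq_appLE]; exact GrothLib.SN25.specMap_appLE_preimage b hU
      rw [h3] at h2
      exact (MorphismProperty.cancel_right_of_respectsIso (P := @UniversallyInjective) _ hU.isoSpec.hom).1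
        ((MorphismProperty.cancel_left_of_respectsIso (P := @UniversallyInjective) (hU.preimage b).isoSpec.inv _).1 h2)
    choose U hyU hUI using hloc
    exact IsZariskiLocalAtTarget.of_iSup_eq_top U (top_unique fun y _ => Opens.mem_iSup.2 ⟨y, hyU y⟩) hUI
  rw [← f.toNormalization_fromNormalization]
  exact geometricallyConnected_comp_univHomeo a b huh

end GrothLib.Stein
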